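import Cfsg.Agent.H0.Co.D.D0

/-! Generated by tools/h0/co1/genD.py. -/

set_option maxRecDepth 100000
set_option maxHeartbeats 0

namespace H0.Co
open H16 H0.TR H0.Am H0.Fi
open scoped commutatorElement

theorem acte_39_0 : allZ (H15.actEnt Cx H15.XCo1C.Z F_P (nat_lit 4560) (nat_lit 39)) (nat_lit 0) (nat_lit 4560) = true := by decide +kernel
theorem g0 : allZ (fun a => Nat.add (ltAll 40 (nth [] gW a)) (sumL (fun β => Nat.xor (H15.XCo1C.P a β) (apW F_P (nth [] gW a) β)) H15.XCo1C.B)) 0 15 = true := by decide +kernel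
theorem pcQ_p : allZ2 (pcEnt (rl [nat_lit 9, nat_lit 10, nat_lit 15, nat_lit 16, nat_lit 17, nat_lit 18, nat_lit 19, nat_lit 2, nat_lit 4] F_P) (nat_lit 2) H15.XCo1C.B pcQC) 9 9 = true := by decide +kernel
theorem pcQ_e : allL (ltAll 9) pcQe = true := by decide +kernel
theorem pcQl0_e_0 : allZ (dent pcQl0 (wdsP (rl [nat_lit 9, nat_lit 10, nat_lit 15, nat_lit 16, nat_lit 17, nat_lit 18, nat_lit 19, nat_lit 2, nat_lit 4] F_P) pcQe) (nat_lit 4560)) (nat_lit 0) (nat_lit 31) = true := by decide +kernel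
theorem pcQl0_h : 0 < pcQl0.n ∧ 0 < pcQl0.K ∧ pcQl0.Pt 0 < 4560 ∧ pcQl0.Q (pcQl0.Pt 0) = 0 := by decide +kernel
theorem pcQl1_e_0 : allZ (dent pcQl1 (wdsP (rl [nat_lit 9, nat_lit 10, nat_lit 15, nat_lit 16, nat_lit 17, nat_lit 18, nat_lit 19, nat_lit 2, nat_lit 4] F_P) pcQe) (nat_lit 4560)) (nat_lit 0) (nat_lit 15) = true := by decide +kernel
theorem pcQl1_h : 0 < pcQl1.n ∧ 0 < pcQl1.K ∧ pcQl1.Pt 0 < 4560 ∧ pcQl1.Q (pcQl1.Pt 0) = 0 := by decide +kernel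
theorem pcQ_f1 : (Nat.ble pcQl1.K 14 && Nat.ble (topK []) pcQl1.K && fixLetters (wdsP (rl [nat_lit 9, nat_lit 10, nat_lit 15, nat_lit 16, nat_lit 17, nat_lit 18, nat_lit 19, nat_lit 2, nat_lit 4] F_P) pcQe) (topK []) (pcQl1.Pt 0)) = true := by decide +kernel
theorem pcQ_f0 : (Nat.ble pcQl0.K 14 && Nat.ble (topK [pcQl1]) pcQl0.K && fixLetters (wdsP (rl [nat_lit 9, nat_lit 10, nat_lit 15, nat_lit 16, nat_lit 17, nat_lit 18, nat_lit 19, nat_lit 2, nat_lit 4] F_P) pcQe) (topK [pcQl1]) (pcQl0.Pt 0)) = true := by decide +kernel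
theorem pcQ_c : chainCard [pcQl0, pcQl1] = 2 ^ 9 := by decide +kernel
theorem esQ_k : allZ2 (H0.Fi.esEnt (rl [nat_lit 9, nat_lit 10, nat_lit 15, nat_lit 16, nat_lit 17, nat_lit 18, nat_lit 19, nat_lit 2, nat_lit 4] F_P) (nat_lit 9) H15.XCo1C.B) 9 9 = true := by decide +kernel
theorem cQth_lt : allL (ltAll 40) cQth_W = true := by decide +kernel
theorem cQtl0_e_0 : allZ (dent cQtl0 cQth_P (nat_lit 4560)) (nat_lit 0) (nat_lit 4319) = true := by decide +kernel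
theorem cQtl0_h : 0 < cQtl0.n ∧ 0 < cQtl0.K ∧ cQtl0.Pt 0 < 4560 ∧ cQtl0.Q (cQtl0.Pt 0) = 0 := by decide +kernel
theorem cQtl1_e_0 : allZ (dent cQtl1 cQth_P (nat_lit 4560)) (nat_lit 0) (nat_lit 29) = true := by decide +kernel
theorem cQtl1_h : 0 < cQtl1.n ∧ 0 < cQtl1.K ∧ cQtl1.Pt 0 < 4560 ∧ cQtl1.Q (cQtl1.Pt 0) = 0 := by decide +kernel
theorem cQtl2_e_0 : allZ (dent cQtl2 cQth_P (nat_lit 4560)) (nat_lit 0) (nat_lit 27) = true := by decide +kernel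
theorem cQtl2_h : 0 < cQtl2.n ∧ 0 < cQtl2.K ∧ cQtl2.Pt 0 < 4560 ∧ cQtl2.Q (cQtl2.Pt 0) = 0 := by decide +kernel
theorem cQtl3_e_0 : allZ (dent cQtl3 cQth_P (nat_lit 4560)) (nat_lit 0) (nat_lit 23) = true := by decide +kernel
theorem cQtl3_h : 0 < cQtl3.n ∧ 0 < cQtl3.K ∧ cQtl3.Pt 0 < 4560 ∧ cQtl3.Q (cQtl3.Pt 0) = 0 := by decide +kernel
theorem cQtl4_e_0 : allZ (dent cQtl4 cQth_P (nat_lit 4560)) (nat_lit 0) (nat_lit 15) = true := by decide +kernel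
theorem cQtl4_h : 0 < cQtl4.n ∧ 0 < cQtl4.K ∧ cQtl4.Pt 0 < 4560 ∧ cQtl4.Q (cQtl4.Pt 0) = 0 := by decide +kernel
theorem cQtl5_e_0 : allZ (dent cQtl5 cQth_P (nat_lit 4560)) (nat_lit 0) (nat_lit 1) = true := by decide +kernel
theorem cQtl5_h : 0 < cQtl5.n ∧ 0 < cQtl5.K ∧ cQtl5.Pt 0 < 4560 ∧ cQtl5.Q (cQtl5.Pt 0) = 0 := by decide +kernel
theorem cQtl6_e_0 : allZ (dent cQtl6 cQth_P (nat_lit 4560)) (nat_lit 0) (nat_lit 1) = true := by decide +kernel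
theorem cQtl6_h : 0 < cQtl6.n ∧ 0 < cQtl6.K ∧ cQtl6.Pt 0 < 4560 ∧ cQtl6.Q (cQtl6.Pt 0) = 0 := by decide +kernel
theorem cQtl7_e_0 : allZ (dent cQtl7 cQth_P (nat_lit 4560)) (nat_lit 0) (nat_lit 1) = true := by decide +kernel
theorem cQtl7_h : 0 < cQtl7.n ∧ 0 < cQtl7.K ∧ cQtl7.Pt 0 < 4560 ∧ cQtl7.Q (cQtl7.Pt 0) = 0 := by decide +kernel
theorem cQtl8_e_0 : allZ (dent cQtl8 cQth_P (nat_lit 4560)) (nat_lit 0) (nat_lit 1) = true := by decide +kernel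
theorem cQtl8_h : 0 < cQtl8.n ∧ 0 < cQtl8.K ∧ cQtl8.Pt 0 < 4560 ∧ cQtl8.Q (cQtl8.Pt 0) = 0 := by decide +kernel
theorem cQtl9_e_0 : allZ (dent cQtl9 cQth_P (nat_lit 4560)) (nat_lit 0) (nat_lit 1) = true := by decide +kernel
theorem cQtl9_h : 0 < cQtl9.n ∧ 0 < cQtl9.K ∧ cQtl9.Pt 0 < 4560 ∧ cQtl9.Q (cQtl9.Pt 0) = 0 := by decide +kernel
theorem cQtl10_e_0 : allZ (dent cQtl10 cQth_P (nat_lit 4560)) (nat_lit 0) (nat_lit 1) = true := by decide +kernel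
theorem cQtl10_h : 0 < cQtl10.n ∧ 0 < cQtl10.K ∧ cQtl10.Pt 0 < 4560 ∧ cQtl10.Q (cQtl10.Pt 0) = 0 := by decide +kernel
theorem cQtl11_e_0 : allZ (dent cQtl11 cQth_P (nat_lit 4560)) (nat_lit 0) (nat_lit 1) = true := by decide +kernel
theorem cQtl11_h : 0 < cQtl11.n ∧ 0 < cQtl11.K ∧ cQtl11.Pt 0 < 4560 ∧ cQtl11.Q (cQtl11.Pt 0) = 0 := by decide +kernel
theorem cQt_f11 : (Nat.ble cQtl11.K 53 && Nat.ble (topK []) cQtl11.K && fixLetters cQth_P (topK []) (cQtl11.Pt 0)) = true := by decide +kernel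
theorem cQt_f10 : (Nat.ble cQtl10.K 53 && Nat.ble (topK [cQtl11]) cQtl10.K && fixLetters cQth_P (topK [cQtl11]) (cQtl10.Pt 0)) = true := by decide +kernel
theorem cQt_f9 : (Nat.ble cQtl9.K 53 && Nat.ble (topK [cQtl10, cQtl11]) cQtl9.K && fixLetters cQth_P (topK [cQtl10, cQtl11]) (cQtl9.Pt 0)) = true := by decide +kernel
theorem cQt_f8 : (Nat.ble cQtl8.K 53 && Nat.ble (topK [cQtl9, cQtl10, cQtl11]) cQtl8.K && fixLetters cQth_P (topK [cQtl9, cQtl10, cQtl11]) (cQtl8.Pt 0)) = true := by decide +kernel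
theorem cQt_f7 : (Nat.ble cQtl7.K 53 && Nat.ble (topK [cQtl8, cQtl9, cQtl10, cQtl11]) cQtl7.K && fixLetters cQth_P (topK [cQtl8, cQtl9, cQtl10, cQtl11]) (cQtl7.Pt 0)) = true := by decide +kernel
theorem cQt_f6 : (Nat.ble cQtl6.K 53 && Nat.ble (topK [cQtl7, cQtl8, cQtl9, cQtl10, cQtl11]) cQtl6.K && fixLetters cQth_P (topK [cQtl7, cQtl8, cQtl9, cQtl10, cQtl11]) (cQtl6.Pt 0)) = true := by decide +kernel
theorem cQt_f5 : (Nat.ble cQtl5.K 53 && Nat.ble (topK [cQtl6, cQtl7, cQtl8, cQtl9, cQtl10, cQtl11]) cQtl5.K && fixLetters cQth_P (topK [cQtl6, cQtl7, cQtl8, cQtl9, cQtl10, cQtl11]) (cQtl5.Pt 0)) = true := by decide +kernel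
theorem cQt_f4 : (Nat.ble cQtl4.K 53 && Nat.ble (topK [cQtl5, cQtl6, cQtl7, cQtl8, cQtl9, cQtl10, cQtl11]) cQtl4.K && fixLetters cQth_P (topK [cQtl5, cQtl6, cQtl7, cQtl8, cQtl9, cQtl10, cQtl11]) (cQtl4.Pt 0)) = true := by decide +kernel
theorem cQt_f3 : (Nat.ble cQtl3.K 53 && Nat.ble (topK [cQtl4, cQtl5, cQtl6, cQtl7, cQtl8, cQtl9, cQtl10, cQtl11]) cQtl3.K && fixLetters cQth_P (topK [cQtl4, cQtl5, cQtl6, cQtl7, cQtl8, cQtl9, cQtl10, cQtl11]) (cQtl3.Pt 0)) = true := by decide +kernel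
theorem cQt_f2 : (Nat.ble cQtl2.K 53 && Nat.ble (topK [cQtl3, cQtl4, cQtl5, cQtl6, cQtl7, cQtl8, cQtl9, cQtl10, cQtl11]) cQtl2.K && fixLetters cQth_P (topK [cQtl3, cQtl4, cQtl5, cQtl6, cQtl7, cQtl8, cQtl9, cQtl10, cQtl11]) (cQtl2.Pt 0)) = true := by decide +kernel
theorem cQt_f1 : (Nat.ble cQtl1.K 53 && Nat.ble (topK [cQtl2, cQtl3, cQtl4, cQtl5, cQtl6, cQtl7, cQtl8, cQtl9, cQtl10, cQtl11]) cQtl1.K && fixLetters cQth_P (topK [cQtl2, cQtl3, cQtl4, cQtl5, cQtl6, cQtl7, cQtl8, cQtl9, cQtl10, cQtl11]) (cQtl1.Pt 0)) = true := by decide +kernel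
theorem cQt_f0 : (Nat.ble cQtl0.K 53 && Nat.ble (topK [cQtl1, cQtl2, cQtl3, cQtl4, cQtl5, cQtl6, cQtl7, cQtl8, cQtl9, cQtl10, cQtl11]) cQtl0.K && fixLetters cQth_P (topK [cQtl1, cQtl2, cQtl3, cQtl4, cQtl5, cQtl6, cQtl7, cQtl8, cQtl9, cQtl10, cQtl11]) (cQtl0.Pt 0)) = true := by decide +kernel
theorem cQt_c : chainCard [cQtl0, cQtl1, cQtl2, cQtl3, cQtl4, cQtl5, cQtl6, cQtl7, cQtl8, cQtl9, cQtl10, cQtl11] = 178362777600 := by decide +kernel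
theorem cQe_lt : allL (ltAll 40) cQe_W = true := by decide +kernel
theorem cQc11_e_0 : allZ (dent cQc11 cQe_P (nat_lit 4560)) (nat_lit 0) (nat_lit 1) = true := by decide +kernel
theorem cQc11_h : 0 < cQc11.n ∧ 0 < cQc11.K ∧ cQc11.Pt 0 < 4560 ∧ cQc11.Q (cQc11.Pt 0) = 0 := by decide +kernel
theorem cQtn0_0 : (Nat.ble cQtl11.K 53 && Nat.beq (ltAll 4560 [cQtl10.Pt 0, cQtl9.Pt 0, cQtl8.Pt 0, cQtl7.Pt 0, cQtl6.Pt 0, cQtl5.Pt 0, cQtl4.Pt 0, cQtl3.Pt 0, cQtl2.Pt 0, cQtl1.Pt 0, cQtl0.Pt 0]) 0 && kChk cQe_P (rl [nat_lit 9, nat_lit 10, nat_lit 15, nat_lit 16, nat_lit 17, nat_lit 18, nat_lit 19, nat_lit 2, nat_lit 4] F_P) cQtn0.Kn 9 H15.XCo1C.B [cQtl10.Pt 0, cQtl9.Pt 0, cQtl8.Pt 0, cQtl7.Pt 0, cQtl6.Pt 0, cQtl5.Pt 0, cQtl4.Pt 0, cQtl3.Pt 0, cQtl2.Pt 0, cQtl1.Pt 0, cQtl0.Pt 0] && allL (ltAll 9) cQtn0.pre && planOK cQth_P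 (rl [nat_lit 9, nat_lit 10, nat_lit 15, nat_lit 16, nat_lit 17, nat_lit 18, nat_lit 19, nat_lit 2, nat_lit 4] F_P) 9 (cQtl11.Pt 0) cQtn0.plan [cQtl11]) = true := by decide +kernel
theorem cQtn0_1_0 : allZ (cQtn0.ent F_P cQth_P (rl [nat_lit 9, nat_lit 10, nat_lit 15, nat_lit 16, nat_lit 17, nat_lit 18, nat_lit 19, nat_lit 2, nat_lit 4] F_P) (rl [nat_lit 9, nat_lit 10, nat_lit 15, nat_lit 16, nat_lit 17, nat_lit 18, nat_lit 19, nat_lit 2, nat_lit 4] F_P) cQe_P (nat_lit 40) (nat_lit 9) H15.XCo1C.B cQtl11 [] (memO cQc11)) (nat_lit 0) (nat_lit 2) = true := by decide +kernel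
theorem cQ_f11 : (Nat.ble cQc11.K 2 && Nat.ble (topK []) cQc11.K && Nat.beq (cQc11.Pt 0) (cQtl11.Pt 0) && Nat.beq (ltAll 4560 [cQtl10.Pt 0, cQtl9.Pt 0, cQtl8.Pt 0, cQtl7.Pt 0, cQtl6.Pt 0, cQtl5.Pt 0, cQtl4.Pt 0, cQtl3.Pt 0, cQtl2.Pt 0, cQtl1.Pt 0, cQtl0.Pt 0]) 0 && kChk cQe_P (rl [nat_lit 9, nat_lit 10, nat_lit 15, nat_lit 16, nat_lit 17, nat_lit 18, nat_lit 19, nat_lit 2, nat_lit 4] F_P) cQc11.K 9 H15.XCo1C.B [cQtl10.Pt 0, cQtl9.Pt 0, cQtl8.Pt 0, cQtl7.Pt 0, cQtl6.Pt 0, cQtl5.Pt 0, cQtl4.Pt 0, cQtl3.Pt 0, cQtl2.Pt 0, cQtl1.Pt 0, cQtl0.Pt 0]) = true := by decide +kernel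
theorem cQ_f10 : (Nat.ble cQtl10.K 53 && Nat.blt (nat_lit 67) 4560 && fixLetters cQth_P cQtl10.K (nat_lit 67) && Nat.beq (ltAll 9 [nat_lit 3, nat_lit 8]) 0 && Nat.beq (apW (rl [nat_lit 9, nat_lit 10, nat_lit 15, nat_lit 16, nat_lit 17, nat_lit 18, nat_lit 19, nat_lit 2, nat_lit 4] F_P) [nat_lit 3, nat_lit 8] (nat_lit 67)) (cQtl10.Pt 0)) = true := by decide +kernel
theorem cQ_f9 : (Nat.ble cQtl9.K 53 && Nat.blt (nat_lit 67) 4560 && fixLetters cQth_P cQtl9.K (nat_lit 67) && Nat.beq (ltAll 9 [nat_lit 7, nat_lit 3]) 0 && Nat.beq (apW (rl [nat_lit 9, nat_lit 10, nat_lit 15, nat_lit 16, nat_lit 17, nat_lit 18, nat_lit 19, nat_lit 2, nat_lit 4] F_P) [nat_lit 7, nat_lit 3] (nat_lit 67)) (cQtl9.Pt 0)) = true := by decide +kernel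
theorem cQ_f8 : (Nat.ble cQtl8.K 53 && Nat.blt (nat_lit 67) 4560 && fixLetters cQth_P cQtl8.K (nat_lit 67) && Nat.beq (ltAll 9 [nat_lit 1, nat_lit 3]) 0 && Nat.beq (apW (rl [nat_lit 9, nat_lit 10, nat_lit 15, nat_lit 16, nat_lit 17, nat_lit 18, nat_lit 19, nat_lit 2, nat_lit 4] F_P) [nat_lit 1, nat_lit 3] (nat_lit 67)) (cQtl8.Pt 0)) = true := by decide +kernel
theorem cQ_f7 : (Nat.ble cQtl7.K 53 && Nat.blt (nat_lit 67) 4560 && fixLetters cQth_P cQtl7.K (nat_lit 67) && Nat.beq (ltAll 9 [nat_lit 1, nat_lit 8]) 0 && Nat.beq (apW (rl [nat_lit 9, nat_lit 10, nat_lit 15, nat_lit 16, nat_lit 17, nat_lit 18, nat_lit 19, nat_lit 2, nat_lit 4] F_P) [nat_lit 1, nat_lit 8] (nat_lit 67)) (cQtl7.Pt 0)) = true := by decide +kernel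
theorem cQ_f6 : (Nat.ble cQtl6.K 53 && Nat.blt (nat_lit 67) 4560 && fixLetters cQth_P cQtl6.K (nat_lit 67) && Nat.beq (ltAll 9 [nat_lit 1, nat_lit 7]) 0 && Nat.beq (apW (rl [nat_lit 9, nat_lit 10, nat_lit 15, nat_lit 16, nat_lit 17, nat_lit 18, nat_lit 19, nat_lit 2, nat_lit 4] F_P) [nat_lit 1, nat_lit 7] (nat_lit 67)) (cQtl6.Pt 0)) = true := by decide +kernel
theorem cQ_f5 : (Nat.ble cQtl5.K 53 && Nat.blt (nat_lit 67) 4560 && fixLetters cQth_P cQtl5.K (nat_lit 67) && Nat.beq (ltAll 9 [nat_lit 7, nat_lit 8]) 0 && Nat.beq (apW (rl [nat_lit 9, nat_lit 10, nat_lit 15, nat_lit 16, nat_lit 17, nat_lit 18, nat_lit 19, nat_lit 2, nat_lit 4] F_P) [nat_lit 7, nat_lit 8] (nat_lit 67)) (cQtl5.Pt 0)) = true := by decide +kernel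
theorem cQ_f4 : (Nat.ble cQtl4.K 53 && Nat.blt (nat_lit 67) 4560 && fixLetters cQth_P cQtl4.K (nat_lit 67) && Nat.beq (ltAll 9 [nat_lit 8]) 0 && Nat.beq (apW (rl [nat_lit 9, nat_lit 10, nat_lit 15, nat_lit 16, nat_lit 17, nat_lit 18, nat_lit 19, nat_lit 2, nat_lit 4] F_P) [nat_lit 8] (nat_lit 67)) (cQtl4.Pt 0)) = true := by decide +kernel
theorem cQ_f3 : (Nat.ble cQtl3.K 53 && Nat.blt (nat_lit 67) 4560 && fixLetters cQth_P cQtl3.K (nat_lit 67) && Nat.beq (ltAll 9 [nat_lit 3]) 0 && Nat.beq (apW (rl [nat_lit 9, nat_lit 10, nat_lit 15, nat_lit 16, nat_lit 17, nat_lit 18, nat_lit 19, nat_lit 2, nat_lit 4] F_P) [nat_lit 3] (nat_lit 67)) (cQtl3.Pt 0)) = true := by decide +kernel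
theorem cQ_f2 : (Nat.ble cQtl2.K 53 && Nat.blt (nat_lit 67) 4560 && fixLetters cQth_P cQtl2.K (nat_lit 67) && Nat.beq (ltAll 9 [nat_lit 1]) 0 && Nat.beq (apW (rl [nat_lit 9, nat_lit 10, nat_lit 15, nat_lit 16, nat_lit 17, nat_lit 18, nat_lit 19, nat_lit 2, nat_lit 4] F_P) [nat_lit 1] (nat_lit 67)) (cQtl2.Pt 0)) = true := by decide +kernel
theorem cQ_f1 : (Nat.ble cQtl1.K 53 && Nat.blt (nat_lit 67) 4560 && fixLetters cQth_P cQtl1.K (nat_lit 67) && Nat.beq (ltAll 9 [nat_lit 7]) 0 && Nat.beq (apW (rl [nat_lit 9, nat_lit 10, nat_lit 15, nat_lit 16, nat_lit 17, nat_lit 18, nat_lit 19, nat_lit 2, nat_lit 4] F_P) [nat_lit 7] (nat_lit 67)) (cQtl1.Pt 0)) = true := by decide +kernel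
theorem cQc0_e_0 : allZ (dent cQc0 cQe_P (nat_lit 4560)) (nat_lit 0) (nat_lit 1) = true := by decide +kernel
theorem cQc0_h : 0 < cQc0.n ∧ 0 < cQc0.K ∧ cQc0.Pt 0 < 4560 ∧ cQc0.Q (cQc0.Pt 0) = 0 := by decide +kernel
theorem cQtn1_0 : (Nat.ble cQtl0.K 53 && Nat.beq (ltAll 4560 []) 0 && kChk cQe_P (rl [nat_lit 9, nat_lit 10, nat_lit 15, nat_lit 16, nat_lit 17, nat_lit 18, nat_lit 19, nat_lit 2, nat_lit 4] F_P) cQtn1.Kn 9 H15.XCo1C.B [] && allL (ltAll 9) cQtn1.pre && planOK cQth_P (rl [nat_lit 9, nat_lit 10, nat_lit 15, nat_lit 16, nat_lit 17, nat_lit 18, nat_lit 19, nat_lit 2, nat_lit 4] F_P) 9 (cQtl0.Pt 0) cQtn1.plan [cQtl0, cQtl1, cQtl2, cQtl3, cQtl4, cQtl5, cQtl6, cQtl7, cQtl8, cQtl9, cQtl10, cQtl11]) = true := by decide +kernel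
theorem cQtn1_1_0 : allZ (cQtn1.ent F_P cQth_P (rl [nat_lit 9, nat_lit 10, nat_lit 15, nat_lit 16, nat_lit 17, nat_lit 18, nat_lit 19, nat_lit 2, nat_lit 4] F_P) (rl [nat_lit 9, nat_lit 10, nat_lit 15, nat_lit 16, nat_lit 17, nat_lit 18, nat_lit 19, nat_lit 2, nat_lit 4] F_P) cQe_P (nat_lit 40) (nat_lit 9) H15.XCo1C.B cQtl0 [cQtl1, cQtl2, cQtl3, cQtl4, cQtl5, cQtl6, cQtl7, cQtl8, cQtl9, cQtl10, cQtl11] (memO cQc0)) (nat_lit 0) (nat_lit 4320) = true := by decide +kernel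
theorem cQ_f0 : (Nat.ble cQc0.K 2 && Nat.ble (topK [cQc11]) cQc0.K && Nat.beq (cQc0.Pt 0) (cQtl0.Pt 0) && Nat.beq (ltAll 4560 []) 0 && kChk cQe_P (rl [nat_lit 9, nat_lit 10, nat_lit 15, nat_lit 16, nat_lit 17, nat_lit 18, nat_lit 19, nat_lit 2, nat_lit 4] F_P) cQc0.K 9 H15.XCo1C.B []) = true := by decide +kernel
theorem cQ_c : chainCard [cQc0, cQc11] = 4 ∧ topK [cQc0, cQc11] = 2 := by decide +kernel
theorem cQ_le_k : allZ (fun a => Nat.add (ltAll 2 (nth [] [[nat_lit 0, nat_lit 1],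
  [nat_lit 0]] a)) (sumL (fun β => Nat.xor (cQe_P a β) (apW (rl [nat_lit 9, nat_lit 14] F_P) (nth [] [[nat_lit 0, nat_lit 1],
  [nat_lit 0]] a) β)) H15.XCo1C.B)) 0 2 = true := by decide +kernel
theorem nQ_k : allZ2 (fun a j => force a fun a => cjL (rl [nat_lit 9, nat_lit 10, nat_lit 15, nat_lit 16, nat_lit 17, nat_lit 18, nat_lit 19, nat_lit 2, nat_lit 4] F_P) (rl [nat_lit 20, nat_lit 21, nat_lit 22, nat_lit 23, nat_lit 24, nat_lit 25, nat_lit 26, nat_lit 27, nat_lit 28, nat_lit 29] F_P) 9 H15.XCo1C.B a [j] (nth [] (nth [] [[[nat_lit 0],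
  [nat_lit 1],
  [nat_lit 4, nat_lit 7, nat_lit 8],
  [nat_lit 1, nat_lit 5],
  [nat_lit 0, nat_lit 2, nat_lit 3, nat_lit 8],
  [nat_lit 0, nat_lit 1, nat_lit 2, nat_lit 5, nat_lit 6, nat_lit 7, nat_lit 8],
  [nat_lit 1, nat_lit 3, nat_lit 4, nat_lit 5, nat_lit 6, nat_lit 7, nat_lit 8],
  [nat_lit 1, nat_lit 2, nat_lit 5, nat_lit 7],
  [nat_lit 8]], [[nat_lit 0],
  [nat_lit 1],
  [nat_lit 0, nat_lit 2, nat_lit 3, nat_lit 4, nat_lit 5, nat_lit 6, nat_lit 7],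
  [nat_lit 2, nat_lit 3, nat_lit 5, nat_lit 6, nat_lit 7, nat_lit 8],
  [nat_lit 0, nat_lit 4, nat_lit 5, nat_lit 6, nat_lit 8],
  [nat_lit 1, nat_lit 3],
  [nat_lit 5, nat_lit 7, nat_lit 8],
  [nat_lit 0, nat_lit 2, nat_lit 4, nat_lit 5, nat_lit 6],
  [nat_lit 8]], [[nat_lit 0],
  [nat_lit 1],
  [nat_lit 2, nat_lit 3, nat_lit 5, nat_lit 6, nat_lit 7, nat_lit 8],
  [nat_lit 0, nat_lit 1, nat_lit 2, nat_lit 3, nat_lit 4, nat_lit 5, nat_lit 7, nat_lit 8],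
  [nat_lit 1, nat_lit 2, nat_lit 5, nat_lit 7, nat_lit 8],
  [nat_lit 5],
  [nat_lit 6],
  [nat_lit 7],
  [nat_lit 8]], [[nat_lit 0],
  [nat_lit 1],
  [nat_lit 1, nat_lit 4, nat_lit 5, nat_lit 7, nat_lit 8],
  [nat_lit 0, nat_lit 1, nat_lit 2, nat_lit 4, nat_lit 6],
  [nat_lit 1, nat_lit 2, nat_lit 3, nat_lit 6],
  [nat_lit 5],
  [nat_lit 6],
  [nat_lit 7],
  [nat_lit 8]], [[nat_lit 0],
  [nat_lit 1],
  [nat_lit 0, nat_lit 1, nat_lit 2, nat_lit 3, nat_lit 4, nat_lit 5, nat_lit 7, nat_lit 8],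
  [nat_lit 1, nat_lit 3, nat_lit 6, nat_lit 8],
  [nat_lit 0, nat_lit 1, nat_lit 4, nat_lit 6, nat_lit 8],
  [nat_lit 0, nat_lit 3, nat_lit 4, nat_lit 6, nat_lit 7],
  [nat_lit 0, nat_lit 1, nat_lit 3, nat_lit 4, nat_lit 5, nat_lit 6, nat_lit 7, nat_lit 8],
  [nat_lit 7],
  [nat_lit 8]], [[nat_lit 0],
  [nat_lit 1],
  [nat_lit 2, nat_lit 3, nat_lit 4, nat_lit 5, nat_lit 6, nat_lit 7],
  [nat_lit 1, nat_lit 4, nat_lit 5, nat_lit 7, nat_lit 8],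
  [nat_lit 0, nat_lit 1, nat_lit 3, nat_lit 5, nat_lit 7, nat_lit 8],
  [nat_lit 0, nat_lit 1, nat_lit 5, nat_lit 6, nat_lit 8],
  [nat_lit 0, nat_lit 3, nat_lit 4, nat_lit 5, nat_lit 7],
  [nat_lit 7],
  [nat_lit 8]], [[nat_lit 0],
  [nat_lit 0, nat_lit 2, nat_lit 3, nat_lit 5, nat_lit 6, nat_lit 7],
  [nat_lit 0, nat_lit 1, nat_lit 3, nat_lit 5, nat_lit 6, nat_lit 7],
  [nat_lit 3],
  [nat_lit 1, nat_lit 2, nat_lit 3, nat_lit 5, nat_lit 8],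
  [nat_lit 0, nat_lit 1, nat_lit 2, nat_lit 3, nat_lit 4, nat_lit 8],
  [nat_lit 4, nat_lit 7, nat_lit 8],
  [nat_lit 1, nat_lit 2, nat_lit 3, nat_lit 4, nat_lit 5, nat_lit 7, nat_lit 8],
  [nat_lit 1, nat_lit 2, nat_lit 3, nat_lit 5, nat_lit 6, nat_lit 7, nat_lit 8]], [[nat_lit 0],
  [nat_lit 0, nat_lit 1, nat_lit 4, nat_lit 6, nat_lit 7, nat_lit 8],
  [nat_lit 0, nat_lit 2, nat_lit 4, nat_lit 6, nat_lit 7, nat_lit 8],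
  [nat_lit 3],
  [nat_lit 0, nat_lit 1, nat_lit 2, nat_lit 3, nat_lit 4, nat_lit 5, nat_lit 6, nat_lit 7],
  [nat_lit 1, nat_lit 2, nat_lit 3, nat_lit 6, nat_lit 7],
  [nat_lit 1, nat_lit 2, nat_lit 3, nat_lit 4, nat_lit 5, nat_lit 6, nat_lit 8],
  [nat_lit 0, nat_lit 1, nat_lit 2, nat_lit 3, nat_lit 5, nat_lit 6],
  [nat_lit 4, nat_lit 6, nat_lit 7]], [[nat_lit 0],
  [nat_lit 2, nat_lit 3, nat_lit 4, nat_lit 6, nat_lit 8],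
  [nat_lit 2],
  [nat_lit 2, nat_lit 4, nat_lit 6],
  [nat_lit 0, nat_lit 1, nat_lit 2, nat_lit 3, nat_lit 6, nat_lit 8],
  [nat_lit 1, nat_lit 2, nat_lit 3, nat_lit 4, nat_lit 5, nat_lit 6, nat_lit 8],
  [nat_lit 0, nat_lit 2, nat_lit 3, nat_lit 4],
  [nat_lit 7],
  [nat_lit 1]], [[nat_lit 0],
  [nat_lit 8],
  [nat_lit 2],
  [nat_lit 0, nat_lit 1, nat_lit 2, nat_lit 4, nat_lit 6, nat_lit 8],
  [nat_lit 0, nat_lit 1, nat_lit 4, nat_lit 8],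
  [nat_lit 1, nat_lit 5, nat_lit 8],
  [nat_lit 0, nat_lit 1, nat_lit 2, nat_lit 3, nat_lit 4, nat_lit 8],
  [nat_lit 7],
  [nat_lit 2, nat_lit 3, nat_lit 4, nat_lit 6, nat_lit 8]]] a) j)) 10 9 = true := by decide +kernel
theorem orbQ_e_0 : allZ (H0.Fi.orbEnt (rl [nat_lit 9, nat_lit 10, nat_lit 15, nat_lit 16, nat_lit 17, nat_lit 18, nat_lit 19, nat_lit 2, nat_lit 4] F_P) (rl [nat_lit 20, nat_lit 21, nat_lit 22, nat_lit 23, nat_lit 24, nat_lit 25, nat_lit 26, nat_lit 27, nat_lit 28, nat_lit 29] F_P) (nat_lit 2) (nat_lit 9) (nat_lit 10) H15.XCo1C.B orbQD orbQL orbQr orbQq orbQR) (nat_lit 0) (nat_lit 192) = true := by decide +kernel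
theorem orbQ_e_1 : allZ (H0.Fi.orbEnt (rl [nat_lit 9, nat_lit 10, nat_lit 15, nat_lit 16, nat_lit 17, nat_lit 18, nat_lit 19, nat_lit 2, nat_lit 4] F_P) (rl [nat_lit 20, nat_lit 21, nat_lit 22, nat_lit 23, nat_lit 24, nat_lit 25, nat_lit 26, nat_lit 27, nat_lit 28, nat_lit 29] F_P) (nat_lit 2) (nat_lit 9) (nat_lit 10) H15.XCo1C.B orbQD orbQL orbQr orbQq orbQR) (nat_lit 192) (nat_lit 192) = true := by decide +kernel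
theorem orbQ_e_2 : allZ (H0.Fi.orbEnt (rl [nat_lit 9, nat_lit 10, nat_lit 15, nat_lit 16, nat_lit 17, nat_lit 18, nat_lit 19, nat_lit 2, nat_lit 4] F_P) (rl [nat_lit 20, nat_lit 21, nat_lit 22, nat_lit 23, nat_lit 24, nat_lit 25, nat_lit 26, nat_lit 27, nat_lit 28, nat_lit 29] F_P) (nat_lit 2) (nat_lit 9) (nat_lit 10) H15.XCo1C.B orbQD orbQL orbQr orbQq orbQR) (nat_lit 384) (nat_lit 128) = true := by decide +kernel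
theorem orbQ_q : allZ (fun c => Nat.sub (Nat.succ (orbQq c)) 3) 0 512 = true := by decide +kernel
theorem nQ_f : (Nat.blt 36 4560 && fixLetters (rl [nat_lit 9, nat_lit 10, nat_lit 15, nat_lit 16, nat_lit 17, nat_lit 18, nat_lit 19, nat_lit 2, nat_lit 4] F_P) 9 36 && Nat.beq (ltAll 40 [14]) 0 && !Nat.beq (apW F_P [14] 36) 36) = true := by decide +kernel
theorem gO_k : allZ (fun a => Nat.add (ltAll 10 (nth [] [[nat_lit 0, nat_lit 3, nat_lit 5, nat_lit 1, nat_lit 4, nat_lit 1, nat_lit 1, nat_lit 5],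
  [nat_lit 1, nat_lit 3, nat_lit 0, nat_lit 2, nat_lit 4, nat_lit 1, nat_lit 2],
  [nat_lit 0, nat_lit 0, nat_lit 2, nat_lit 1, nat_lit 7, nat_lit 0, nat_lit 6, nat_lit 0, nat_lit 5, nat_lit 7, nat_lit 1, nat_lit 6, nat_lit 4, nat_lit 0],
  [nat_lit 1, nat_lit 9, nat_lit 3, nat_lit 0, nat_lit 8, nat_lit 3, nat_lit 1, nat_lit 9, nat_lit 3, nat_lit 1, nat_lit 8, nat_lit 0, nat_lit 0],
  [nat_lit 2, nat_lit 8, nat_lit 2, nat_lit 7, nat_lit 0, nat_lit 4, nat_lit 7, nat_lit 1, nat_lit 9, nat_lit 0, nat_lit 7, nat_lit 5, nat_lit 1, nat_lit 6],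
  [nat_lit 0, nat_lit 3, nat_lit 0, nat_lit 3, nat_lit 5, nat_lit 1, nat_lit 2],
  [nat_lit 1, nat_lit 2, nat_lit 0, nat_lit 3, nat_lit 0, nat_lit 3, nat_lit 5],
  [nat_lit 1, nat_lit 4, nat_lit 9, nat_lit 0, nat_lit 3, nat_lit 9, nat_lit 0, nat_lit 2, nat_lit 1, nat_lit 9, nat_lit 4, nat_lit 6, nat_lit 3, nat_lit 8],
  [],
  [nat_lit 2, nat_lit 5, nat_lit 0, nat_lit 7, nat_lit 1, nat_lit 2, nat_lit 4, nat_lit 6, nat_lit 0, nat_lit 3, nat_lit 7, nat_lit 0],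
  [nat_lit 2, nat_lit 7, nat_lit 0, nat_lit 4, nat_lit 7, nat_lit 1, nat_lit 9, nat_lit 0, nat_lit 7, nat_lit 5, nat_lit 1, nat_lit 6, nat_lit 2, nat_lit 8],
  [nat_lit 0, nat_lit 2, nat_lit 4, nat_lit 6, nat_lit 2, nat_lit 8, nat_lit 0, nat_lit 7, nat_lit 8, nat_lit 0, nat_lit 9, nat_lit 3, nat_lit 6, nat_lit 5],
  [nat_lit 3, nat_lit 0, nat_lit 2, nat_lit 1, nat_lit 7, nat_lit 1, nat_lit 3, nat_lit 5, nat_lit 7, nat_lit 1, nat_lit 4, nat_lit 6, nat_lit 5],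
  [nat_lit 3, nat_lit 0, nat_lit 2, nat_lit 1, nat_lit 7, nat_lit 1, nat_lit 3, nat_lit 5, nat_lit 7, nat_lit 1, nat_lit 4, nat_lit 6, nat_lit 5],
  [nat_lit 0, nat_lit 3, nat_lit 0, nat_lit 3, nat_lit 0, nat_lit 3, nat_lit 0, nat_lit 3],
  [nat_lit 2, nat_lit 6, nat_lit 3, nat_lit 9, nat_lit 0, nat_lit 7, nat_lit 4, nat_lit 7, nat_lit 2, nat_lit 9, nat_lit 3, nat_lit 7, nat_lit 1],
  [nat_lit 1, nat_lit 4, nat_lit 7, nat_lit 5, nat_lit 0, nat_lit 3, nat_lit 5, nat_lit 6, nat_lit 0, nat_lit 7, nat_lit 0, nat_lit 4, nat_lit 7],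
  [nat_lit 2, nat_lit 9, nat_lit 0, nat_lit 9, nat_lit 3, nat_lit 6, nat_lit 4, nat_lit 0, nat_lit 9, nat_lit 3, nat_lit 8, nat_lit 6, nat_lit 4, nat_lit 3],
  [nat_lit 1, nat_lit 3, nat_lit 0, nat_lit 6, nat_lit 8, nat_lit 2, nat_lit 0, nat_lit 3, nat_lit 0, nat_lit 6, nat_lit 2, nat_lit 0, nat_lit 0, nat_lit 9],
  [nat_lit 0, nat_lit 5, nat_lit 7, nat_lit 2, nat_lit 8, nat_lit 1, nat_lit 5, nat_lit 7, nat_lit 2, nat_lit 8, nat_lit 1, nat_lit 1],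
  [nat_lit 0],
  [nat_lit 1],
  [nat_lit 2],
  [nat_lit 3],
  [nat_lit 4],
  [nat_lit 5],
  [nat_lit 6],
  [nat_lit 7],
  [nat_lit 8],
  [nat_lit 9],
  [nat_lit 3, nat_lit 6, nat_lit 4, nat_lit 0, nat_lit 8, nat_lit 1, nat_lit 5, nat_lit 7, nat_lit 2],
  [nat_lit 3, nat_lit 6, nat_lit 4, nat_lit 0, nat_lit 9, nat_lit 1, nat_lit 5, nat_lit 7, nat_lit 2],
  [nat_lit 5, nat_lit 7, nat_lit 2, nat_lit 1, nat_lit 5, nat_lit 7, nat_lit 2, nat_lit 1],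
  [nat_lit 4, nat_lit 0, nat_lit 2, nat_lit 9, nat_lit 1, nat_lit 5, nat_lit 0, nat_lit 8, nat_lit 3, nat_lit 1],
  [nat_lit 0, nat_lit 2, nat_lit 1, nat_lit 3, nat_lit 1, nat_lit 5, nat_lit 0, nat_lit 5],
  [nat_lit 1, nat_lit 1, nat_lit 5, nat_lit 0, nat_lit 6, nat_lit 0, nat_lit 0, nat_lit 0, nat_lit 3, nat_lit 1, nat_lit 6, nat_lit 1],
  [nat_lit 1, nat_lit 2, nat_lit 6, nat_lit 0, nat_lit 0, nat_lit 2, nat_lit 1, nat_lit 1, nat_lit 7, nat_lit 3, nat_lit 0],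
  [nat_lit 5, nat_lit 6, nat_lit 4, nat_lit 1, nat_lit 4, nat_lit 8, nat_lit 0, nat_lit 8, nat_lit 6, nat_lit 5, nat_lit 3, nat_lit 6, nat_lit 1],
  [nat_lit 1, nat_lit 2, nat_lit 0],
  [nat_lit 1, nat_lit 9, nat_lit 1, nat_lit 5, nat_lit 7, nat_lit 2, nat_lit 9, nat_lit 1, nat_lit 5, nat_lit 3, nat_lit 6, nat_lit 0, nat_lit 4, nat_lit 6, nat_lit 5]] a)) (sumL (fun β => Nat.xor (F_P a β) (apW (rl [nat_lit 20, nat_lit 21, nat_lit 22, nat_lit 23, nat_lit 24, nat_lit 25, nat_lit 26, nat_lit 27, nat_lit 28, nat_lit 29] F_P) (nth [] [[nat_lit 0, nat_lit 3, nat_lit 5, nat_lit 1, nat_lit 4, nat_lit 1, nat_lit 1, nat_lit 5],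
  [nat_lit 1, nat_lit 3, nat_lit 0, nat_lit 2, nat_lit 4, nat_lit 1, nat_lit 2],
  [nat_lit 0, nat_lit 0, nat_lit 2, nat_lit 1, nat_lit 7, nat_lit 0, nat_lit 6, nat_lit 0, nat_lit 5, nat_lit 7, nat_lit 1, nat_lit 6, nat_lit 4, nat_lit 0],
  [nat_lit 1, nat_lit 9, nat_lit 3, nat_lit 0, nat_lit 8, nat_lit 3, nat_lit 1, nat_lit 9, nat_lit 3, nat_lit 1, nat_lit 8, nat_lit 0, nat_lit 0],
  [nat_lit 2, nat_lit 8, nat_lit 2, nat_lit 7, nat_lit 0, nat_lit 4, nat_lit 7, nat_lit 1, nat_lit 9, nat_lit 0, nat_lit 7, nat_lit 5, nat_lit 1, nat_lit 6],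
  [nat_lit 0, nat_lit 3, nat_lit 0, nat_lit 3, nat_lit 5, nat_lit 1, nat_lit 2],
  [nat_lit 1, nat_lit 2, nat_lit 0, nat_lit 3, nat_lit 0, nat_lit 3, nat_lit 5],
  [nat_lit 1, nat_lit 4, nat_lit 9, nat_lit 0, nat_lit 3, nat_lit 9, nat_lit 0, nat_lit 2, nat_lit 1, nat_lit 9, nat_lit 4, nat_lit 6, nat_lit 3, nat_lit 8],
  [],
  [nat_lit 2, nat_lit 5, nat_lit 0, nat_lit 7, nat_lit 1, nat_lit 2, nat_lit 4, nat_lit 6, nat_lit 0, nat_lit 3, nat_lit 7, nat_lit 0],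
  [nat_lit 2, nat_lit 7, nat_lit 0, nat_lit 4, nat_lit 7, nat_lit 1, nat_lit 9, nat_lit 0, nat_lit 7, nat_lit 5, nat_lit 1, nat_lit 6, nat_lit 2, nat_lit 8],
  [nat_lit 0, nat_lit 2, nat_lit 4, nat_lit 6, nat_lit 2, nat_lit 8, nat_lit 0, nat_lit 7, nat_lit 8, nat_lit 0, nat_lit 9, nat_lit 3, nat_lit 6, nat_lit 5],
  [nat_lit 3, nat_lit 0, nat_lit 2, nat_lit 1, nat_lit 7, nat_lit 1, nat_lit 3, nat_lit 5, nat_lit 7, nat_lit 1, nat_lit 4, nat_lit 6, nat_lit 5],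
  [nat_lit 3, nat_lit 0, nat_lit 2, nat_lit 1, nat_lit 7, nat_lit 1, nat_lit 3, nat_lit 5, nat_lit 7, nat_lit 1, nat_lit 4, nat_lit 6, nat_lit 5],
  [nat_lit 0, nat_lit 3, nat_lit 0, nat_lit 3, nat_lit 0, nat_lit 3, nat_lit 0, nat_lit 3],
  [nat_lit 2, nat_lit 6, nat_lit 3, nat_lit 9, nat_lit 0, nat_lit 7, nat_lit 4, nat_lit 7, nat_lit 2, nat_lit 9, nat_lit 3, nat_lit 7, nat_lit 1],
  [nat_lit 1, nat_lit 4, nat_lit 7, nat_lit 5, nat_lit 0, nat_lit 3, nat_lit 5, nat_lit 6, nat_lit 0, nat_lit 7, nat_lit 0, nat_lit 4, nat_lit 7],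
  [nat_lit 2, nat_lit 9, nat_lit 0, nat_lit 9, nat_lit 3, nat_lit 6, nat_lit 4, nat_lit 0, nat_lit 9, nat_lit 3, nat_lit 8, nat_lit 6, nat_lit 4, nat_lit 3],
  [nat_lit 1, nat_lit 3, nat_lit 0, nat_lit 6, nat_lit 8, nat_lit 2, nat_lit 0, nat_lit 3, nat_lit 0, nat_lit 6, nat_lit 2, nat_lit 0, nat_lit 0, nat_lit 9],
  [nat_lit 0, nat_lit 5, nat_lit 7, nat_lit 2, nat_lit 8, nat_lit 1, nat_lit 5, nat_lit 7, nat_lit 2, nat_lit 8, nat_lit 1, nat_lit 1],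
  [nat_lit 0],
  [nat_lit 1],
  [nat_lit 2],
  [nat_lit 3],
  [nat_lit 4],
  [nat_lit 5],
  [nat_lit 6],
  [nat_lit 7],
  [nat_lit 8],
  [nat_lit 9],
  [nat_lit 3, nat_lit 6, nat_lit 4, nat_lit 0, nat_lit 8, nat_lit 1, nat_lit 5, nat_lit 7, nat_lit 2],
  [nat_lit 3, nat_lit 6, nat_lit 4, nat_lit 0, nat_lit 9, nat_lit 1, nat_lit 5, nat_lit 7, nat_lit 2],
  [nat_lit 5, nat_lit 7, nat_lit 2, nat_lit 1, nat_lit 5, nat_lit 7, nat_lit 2, nat_lit 1],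
  [nat_lit 4, nat_lit 0, nat_lit 2, nat_lit 9, nat_lit 1, nat_lit 5, nat_lit 0, nat_lit 8, nat_lit 3, nat_lit 1],
  [nat_lit 0, nat_lit 2, nat_lit 1, nat_lit 3, nat_lit 1, nat_lit 5, nat_lit 0, nat_lit 5],
  [nat_lit 1, nat_lit 1, nat_lit 5, nat_lit 0, nat_lit 6, nat_lit 0, nat_lit 0, nat_lit 0, nat_lit 3, nat_lit 1, nat_lit 6, nat_lit 1],
  [nat_lit 1, nat_lit 2, nat_lit 6, nat_lit 0, nat_lit 0, nat_lit 2, nat_lit 1, nat_lit 1, nat_lit 7, nat_lit 3, nat_lit 0],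
  [nat_lit 5, nat_lit 6, nat_lit 4, nat_lit 1, nat_lit 4, nat_lit 8, nat_lit 0, nat_lit 8, nat_lit 6, nat_lit 5, nat_lit 3, nat_lit 6, nat_lit 1],
  [nat_lit 1, nat_lit 2, nat_lit 0],
  [nat_lit 1, nat_lit 9, nat_lit 1, nat_lit 5, nat_lit 7, nat_lit 2, nat_lit 9, nat_lit 1, nat_lit 5, nat_lit 3, nat_lit 6, nat_lit 0, nat_lit 4, nat_lit 6, nat_lit 5]] a) β)) H15.XCo1C.B)) 0 40 = true := by decide +kernel
theorem OO2_k : allZ (fun a => Nat.add (ltAll 10 (nth [] [[nat_lit 0],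
  [nat_lit 1],
  [nat_lit 2],
  [nat_lit 3],
  [nat_lit 4],
  [nat_lit 5],
  [nat_lit 6],
  [nat_lit 7],
  [nat_lit 1, nat_lit 5, nat_lit 7, nat_lit 2, nat_lit 8, nat_lit 3, nat_lit 6, nat_lit 4, nat_lit 0],
  [nat_lit 1, nat_lit 5, nat_lit 7, nat_lit 2, nat_lit 9, nat_lit 3, nat_lit 6, nat_lit 4, nat_lit 0]] a)) (sumL (fun β => Nat.xor ((rl [nat_lit 20, nat_lit 21, nat_lit 22, nat_lit 23, nat_lit 24, nat_lit 25, nat_lit 26, nat_lit 27, nat_lit 28, nat_lit 29] F_P) a β) (apW (rl [nat_lit 20, nat_lit 21, nat_lit 22, nat_lit 23, nat_lit 24, nat_lit 25, nat_lit 26, nat_lit 27, nat_lit 30, nat_lit 31] F_P) (nth [] [[nat_lit 0],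
  [nat_lit 1],
  [nat_lit 2],
  [nat_lit 3],
  [nat_lit 4],
  [nat_lit 5],
  [nat_lit 6],
  [nat_lit 7],
  [nat_lit 1, nat_lit 5, nat_lit 7, nat_lit 2, nat_lit 8, nat_lit 3, nat_lit 6, nat_lit 4, nat_lit 0],
  [nat_lit 1, nat_lit 5, nat_lit 7, nat_lit 2, nat_lit 9, nat_lit 3, nat_lit 6, nat_lit 4, nat_lit 0]] a) β)) H15.XCo1C.B)) 0 10 = true := by decide +kernel
theorem OH_k : allZ (fun a => Nat.add (ltAll 12 (nth [] [[nat_lit 0, nat_lit 5, nat_lit 0, nat_lit 6, nat_lit 1, nat_lit 5],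
  [nat_lit 1, nat_lit 5, nat_lit 1, nat_lit 6, nat_lit 5, nat_lit 0],
  [nat_lit 0, nat_lit 6, nat_lit 3, nat_lit 7, nat_lit 5, nat_lit 11, nat_lit 6, nat_lit 7, nat_lit 10, nat_lit 6, nat_lit 5, nat_lit 7, nat_lit 3, nat_lit 6, nat_lit 11, nat_lit 2],
  [nat_lit 11, nat_lit 6, nat_lit 3, nat_lit 7, nat_lit 5, nat_lit 6, nat_lit 10, nat_lit 7, nat_lit 3, nat_lit 6, nat_lit 11, nat_lit 5, nat_lit 7, nat_lit 3, nat_lit 6],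
  [nat_lit 6, nat_lit 7, nat_lit 5, nat_lit 10, nat_lit 6, nat_lit 10, nat_lit 2, nat_lit 7, nat_lit 6, nat_lit 11, nat_lit 10, nat_lit 5, nat_lit 7, nat_lit 2, nat_lit 6, nat_lit 11, nat_lit 0],
  [nat_lit 1, nat_lit 6, nat_lit 1, nat_lit 11, nat_lit 6, nat_lit 10, nat_lit 5, nat_lit 6, nat_lit 1, nat_lit 7, nat_lit 6, nat_lit 10, nat_lit 6, nat_lit 7, nat_lit 5, nat_lit 1, nat_lit 6],
  [nat_lit 0, nat_lit 7, nat_lit 9, nat_lit 10, nat_lit 6, nat_lit 3, nat_lit 7, nat_lit 5, nat_lit 6, nat_lit 11, nat_lit 8, nat_lit 6, nat_lit 5, nat_lit 0, nat_lit 7, nat_lit 6, nat_lit 1, nat_lit 3],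
  [nat_lit 0, nat_lit 3, nat_lit 1, nat_lit 7, nat_lit 6, nat_lit 7, nat_lit 5, nat_lit 6, nat_lit 11, nat_lit 6, nat_lit 5, nat_lit 7, nat_lit 3, nat_lit 6, nat_lit 10, nat_lit 4, nat_lit 9, nat_lit 1, nat_lit 0],
  [nat_lit 1, nat_lit 4, nat_lit 10, nat_lit 6, nat_lit 3, nat_lit 7, nat_lit 5, nat_lit 6, nat_lit 11, nat_lit 6, nat_lit 10, nat_lit 3, nat_lit 7, nat_lit 1, nat_lit 5, nat_lit 3, nat_lit 6, nat_lit 7],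
  [nat_lit 7, nat_lit 6, nat_lit 3, nat_lit 5, nat_lit 1, nat_lit 7, nat_lit 3, nat_lit 10, nat_lit 6, nat_lit 11, nat_lit 6, nat_lit 5, nat_lit 7, nat_lit 3, nat_lit 6, nat_lit 10, nat_lit 4, nat_lit 1]] a)) (sumL (fun β => Nat.xor ((rl [nat_lit 20, nat_lit 21, nat_lit 22, nat_lit 23, nat_lit 24, nat_lit 25, nat_lit 26, nat_lit 27, nat_lit 28, nat_lit 29] F_P) a β) (apW (rl [nat_lit 0, nat_lit 1, nat_lit 2, nat_lit 3, nat_lit 4, nat_lit 5, nat_lit 6, nat_lit 7, nat_lit 9, nat_lit 10, nat_lit 11, nat_lit 12] F_P) (nth [] [[nat_lit 0, nat_lit 5, nat_lit 0, nat_lit 6, nat_lit 1, nat_lit 5],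
  [nat_lit 1, nat_lit 5, nat_lit 1, nat_lit 6, nat_lit 5, nat_lit 0],
  [nat_lit 0, nat_lit 6, nat_lit 3, nat_lit 7, nat_lit 5, nat_lit 11, nat_lit 6, nat_lit 7, nat_lit 10, nat_lit 6, nat_lit 5, nat_lit 7, nat_lit 3, nat_lit 6, nat_lit 11, nat_lit 2],
  [nat_lit 11, nat_lit 6, nat_lit 3, nat_lit 7, nat_lit 5, nat_lit 6, nat_lit 10, nat_lit 7, nat_lit 3, nat_lit 6, nat_lit 11, nat_lit 5, nat_lit 7, nat_lit 3, nat_lit 6],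
  [nat_lit 6, nat_lit 7, nat_lit 5, nat_lit 10, nat_lit 6, nat_lit 10, nat_lit 2, nat_lit 7, nat_lit 6, nat_lit 11, nat_lit 10, nat_lit 5, nat_lit 7, nat_lit 2, nat_lit 6, nat_lit 11, nat_lit 0],
  [nat_lit 1, nat_lit 6, nat_lit 1, nat_lit 11, nat_lit 6, nat_lit 10, nat_lit 5, nat_lit 6, nat_lit 1, nat_lit 7, nat_lit 6, nat_lit 10, nat_lit 6, nat_lit 7, nat_lit 5, nat_lit 1, nat_lit 6],
  [nat_lit 0, nat_lit 7, nat_lit 9, nat_lit 10, nat_lit 6, nat_lit 3, nat_lit 7, nat_lit 5, nat_lit 6, nat_lit 11, nat_lit 8, nat_lit 6, nat_lit 5, nat_lit 0, nat_lit 7, nat_lit 6, nat_lit 1, nat_lit 3],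
  [nat_lit 0, nat_lit 3, nat_lit 1, nat_lit 7, nat_lit 6, nat_lit 7, nat_lit 5, nat_lit 6, nat_lit 11, nat_lit 6, nat_lit 5, nat_lit 7, nat_lit 3, nat_lit 6, nat_lit 10, nat_lit 4, nat_lit 9, nat_lit 1, nat_lit 0],
  [nat_lit 1, nat_lit 4, nat_lit 10, nat_lit 6, nat_lit 3, nat_lit 7, nat_lit 5, nat_lit 6, nat_lit 11, nat_lit 6, nat_lit 10, nat_lit 3, nat_lit 7, nat_lit 1, nat_lit 5, nat_lit 3, nat_lit 6, nat_lit 7],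
  [nat_lit 7, nat_lit 6, nat_lit 3, nat_lit 5, nat_lit 1, nat_lit 7, nat_lit 3, nat_lit 10, nat_lit 6, nat_lit 11, nat_lit 6, nat_lit 5, nat_lit 7, nat_lit 3, nat_lit 6, nat_lit 10, nat_lit 4, nat_lit 1]] a) β)) H15.XCo1C.B)) 0 10 = true := by decide +kernel
theorem cZSBth_lt : allL (ltAll 40) cZSBth_W = true := by decide +kernel
theorem cZSBtl0_e_0 : allZ (dent cZSBtl0 cZSBth_P (nat_lit 4560)) (nat_lit 0) (nat_lit 239) = true := by decide +kernel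
theorem cZSBtl0_h : 0 < cZSBtl0.n ∧ 0 < cZSBtl0.K ∧ cZSBtl0.Pt 0 < 4560 ∧ cZSBtl0.Q (cZSBtl0.Pt 0) = 0 := by decide +kernel
theorem cZSBtl1_e_0 : allZ (dent cZSBtl1 cZSBth_P (nat_lit 4560)) (nat_lit 0) (nat_lit 55) = true := by decide +kernel
theorem cZSBtl1_h : 0 < cZSBtl1.n ∧ 0 < cZSBtl1.K ∧ cZSBtl1.Pt 0 < 4560 ∧ cZSBtl1.Q (cZSBtl1.Pt 0) = 0 := by decide +kernel
theorem cZSBtl2_e_0 : allZ (dent cZSBtl2 cZSBth_P (nat_lit 4560)) (nat_lit 0) (nat_lit 26) = true := by decide +kernel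
theorem cZSBtl2_h : 0 < cZSBtl2.n ∧ 0 < cZSBtl2.K ∧ cZSBtl2.Pt 0 < 4560 ∧ cZSBtl2.Q (cZSBtl2.Pt 0) = 0 := by decide +kernel
theorem cZSBtl3_e_0 : allZ (dent cZSBtl3 cZSBth_P (nat_lit 4560)) (nat_lit 0) (nat_lit 9) = true := by decide +kernel
theorem cZSBtl3_h : 0 < cZSBtl3.n ∧ 0 < cZSBtl3.K ∧ cZSBtl3.Pt 0 < 4560 ∧ cZSBtl3.Q (cZSBtl3.Pt 0) = 0 := by decide +kernel
theorem cZSBtl4_e_0 : allZ (dent cZSBtl4 cZSBth_P (nat_lit 4560)) (nat_lit 0) (nat_lit 7) = true := by decide +kernel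
theorem cZSBtl4_h : 0 < cZSBtl4.n ∧ 0 < cZSBtl4.K ∧ cZSBtl4.Pt 0 < 4560 ∧ cZSBtl4.Q (cZSBtl4.Pt 0) = 0 := by decide +kernel
theorem cZSBtl5_e_0 : allZ (dent cZSBtl5 cZSBth_P (nat_lit 4560)) (nat_lit 0) (nat_lit 3) = true := by decide +kernel
theorem cZSBtl5_h : 0 < cZSBtl5.n ∧ 0 < cZSBtl5.K ∧ cZSBtl5.Pt 0 < 4560 ∧ cZSBtl5.Q (cZSBtl5.Pt 0) = 0 := by decide +kernel
theorem cZSBtl6_e_0 : allZ (dent cZSBtl6 cZSBth_P (nat_lit 4560)) (nat_lit 0) (nat_lit 2) = true := by decide +kernel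
theorem cZSBtl6_h : 0 < cZSBtl6.n ∧ 0 < cZSBtl6.K ∧ cZSBtl6.Pt 0 < 4560 ∧ cZSBtl6.Q (cZSBtl6.Pt 0) = 0 := by decide +kernel
theorem cZSBtl7_e_0 : allZ (dent cZSBtl7 cZSBth_P (nat_lit 4560)) (nat_lit 0) (nat_lit 31) = true := by decide +kernel
theorem cZSBtl7_h : 0 < cZSBtl7.n ∧ 0 < cZSBtl7.K ∧ cZSBtl7.Pt 0 < 4560 ∧ cZSBtl7.Q (cZSBtl7.Pt 0) = 0 := by decide +kernel
theorem cZSBtl8_e_0 : allZ (dent cZSBtl8 cZSBth_P (nat_lit 4560)) (nat_lit 0) (nat_lit 1) = true := by decide +kernel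
theorem cZSBtl8_h : 0 < cZSBtl8.n ∧ 0 < cZSBtl8.K ∧ cZSBtl8.Pt 0 < 4560 ∧ cZSBtl8.Q (cZSBtl8.Pt 0) = 0 := by decide +kernel
theorem cZSBtl9_e_0 : allZ (dent cZSBtl9 cZSBth_P (nat_lit 4560)) (nat_lit 0) (nat_lit 1) = true := by decide +kernel
theorem cZSBtl9_h : 0 < cZSBtl9.n ∧ 0 < cZSBtl9.K ∧ cZSBtl9.Pt 0 < 4560 ∧ cZSBtl9.Q (cZSBtl9.Pt 0) = 0 := by decide +kernel
theorem cZSBtl10_e_0 : allZ (dent cZSBtl10 cZSBth_P (nat_lit 4560)) (nat_lit 0) (nat_lit 1) = true := by decide +kernel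
theorem cZSBtl10_h : 0 < cZSBtl10.n ∧ 0 < cZSBtl10.K ∧ cZSBtl10.Pt 0 < 4560 ∧ cZSBtl10.Q (cZSBtl10.Pt 0) = 0 := by decide +kernel
theorem cZSBtl11_e_0 : allZ (dent cZSBtl11 cZSBth_P (nat_lit 4560)) (nat_lit 0) (nat_lit 1) = true := by decide +kernel
theorem cZSBtl11_h : 0 < cZSBtl11.n ∧ 0 < cZSBtl11.K ∧ cZSBtl11.Pt 0 < 4560 ∧ cZSBtl11.Q (cZSBtl11.Pt 0) = 0 := by decide +kernel
theorem cZSBt_f11 : (Nat.ble cZSBtl11.K 50 && Nat.ble (topK []) cZSBtl11.K && fixLetters cZSBth_P (topK []) (cZSBtl11.Pt 0)) = true := by decide +kernel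
theorem cZSBt_f10 : (Nat.ble cZSBtl10.K 50 && Nat.ble (topK [cZSBtl11]) cZSBtl10.K && fixLetters cZSBth_P (topK [cZSBtl11]) (cZSBtl10.Pt 0)) = true := by decide +kernel
theorem cZSBt_f9 : (Nat.ble cZSBtl9.K 50 && Nat.ble (topK [cZSBtl10, cZSBtl11]) cZSBtl9.K && fixLetters cZSBth_P (topK [cZSBtl10, cZSBtl11]) (cZSBtl9.Pt 0)) = true := by decide +kernel
theorem cZSBt_f8 : (Nat.ble cZSBtl8.K 50 && Nat.ble (topK [cZSBtl9, cZSBtl10, cZSBtl11]) cZSBtl8.K && fixLetters cZSBth_P (topK [cZSBtl9, cZSBtl10, cZSBtl11]) (cZSBtl8.Pt 0)) = true := by decide +kernel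
theorem cZSBt_f7 : (Nat.ble cZSBtl7.K 50 && Nat.ble (topK [cZSBtl8, cZSBtl9, cZSBtl10, cZSBtl11]) cZSBtl7.K && fixLetters cZSBth_P (topK [cZSBtl8, cZSBtl9, cZSBtl10, cZSBtl11]) (cZSBtl7.Pt 0)) = true := by decide +kernel
theorem cZSBt_f6 : (Nat.ble cZSBtl6.K 50 && Nat.ble (topK [cZSBtl7, cZSBtl8, cZSBtl9, cZSBtl10, cZSBtl11]) cZSBtl6.K && fixLetters cZSBth_P (topK [cZSBtl7, cZSBtl8, cZSBtl9, cZSBtl10, cZSBtl11]) (cZSBtl6.Pt 0)) = true := by decide +kernel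
theorem cZSBt_f5 : (Nat.ble cZSBtl5.K 50 && Nat.ble (topK [cZSBtl6, cZSBtl7, cZSBtl8, cZSBtl9, cZSBtl10, cZSBtl11]) cZSBtl5.K && fixLetters cZSBth_P (topK [cZSBtl6, cZSBtl7, cZSBtl8, cZSBtl9, cZSBtl10, cZSBtl11]) (cZSBtl5.Pt 0)) = true := by decide +kernel
theorem cZSBt_f4 : (Nat.ble cZSBtl4.K 50 && Nat.ble (topK [cZSBtl5, cZSBtl6, cZSBtl7, cZSBtl8, cZSBtl9, cZSBtl10, cZSBtl11]) cZSBtl4.K && fixLetters cZSBth_P (topK [cZSBtl5, cZSBtl6, cZSBtl7, cZSBtl8, cZSBtl9, cZSBtl10, cZSBtl11]) (cZSBtl4.Pt 0)) = true := by decide +kernel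
theorem cZSBt_f3 : (Nat.ble cZSBtl3.K 50 && Nat.ble (topK [cZSBtl4, cZSBtl5, cZSBtl6, cZSBtl7, cZSBtl8, cZSBtl9, cZSBtl10, cZSBtl11]) cZSBtl3.K && fixLetters cZSBth_P (topK [cZSBtl4, cZSBtl5, cZSBtl6, cZSBtl7, cZSBtl8, cZSBtl9, cZSBtl10, cZSBtl11]) (cZSBtl3.Pt 0)) = true := by decide +kernel
theorem cZSBt_f2 : (Nat.ble cZSBtl2.K 50 && Nat.ble (topK [cZSBtl3, cZSBtl4, cZSBtl5, cZSBtl6, cZSBtl7, cZSBtl8, cZSBtl9, cZSBtl10, cZSBtl11]) cZSBtl2.K && fixLetters cZSBth_P (topK [cZSBtl3, cZSBtl4, cZSBtl5, cZSBtl6, cZSBtl7, cZSBtl8, cZSBtl9, cZSBtl10, cZSBtl11]) (cZSBtl2.Pt 0)) = true := by decide +kernel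
theorem cZSBt_f1 : (Nat.ble cZSBtl1.K 50 && Nat.ble (topK [cZSBtl2, cZSBtl3, cZSBtl4, cZSBtl5, cZSBtl6, cZSBtl7, cZSBtl8, cZSBtl9, cZSBtl10, cZSBtl11]) cZSBtl1.K && fixLetters cZSBth_P (topK [cZSBtl2, cZSBtl3, cZSBtl4, cZSBtl5, cZSBtl6, cZSBtl7, cZSBtl8, cZSBtl9, cZSBtl10, cZSBtl11]) (cZSBtl1.Pt 0)) = true := by decide +kernel
theorem cZSBt_f0 : (Nat.ble cZSBtl0.K 50 && Nat.ble (topK [cZSBtl1, cZSBtl2, cZSBtl3, cZSBtl4, cZSBtl5, cZSBtl6, cZSBtl7, cZSBtl8, cZSBtl9, cZSBtl10, cZSBtl11]) cZSBtl0.K && fixLetters cZSBth_P (topK [cZSBtl1, cZSBtl2, cZSBtl3, cZSBtl4, cZSBtl5, cZSBtl6, cZSBtl7, cZSBtl8, cZSBtl9, cZSBtl10, cZSBtl11]) (cZSBtl0.Pt 0)) = true := by decide +kernel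
theorem cZSBt_c : chainCard [cZSBtl0, cZSBtl1, cZSBtl2, cZSBtl3, cZSBtl4, cZSBtl5, cZSBtl6, cZSBtl7, cZSBtl8, cZSBtl9, cZSBtl10, cZSBtl11] = 178362777600 := by decide +kernel
theorem cZSBe_lt : allL (ltAll 40) cZSBe_W = true := by decide +kernel
theorem cZSBc11_e_0 : allZ (dent cZSBc11 cZSBe_P (nat_lit 4560)) (nat_lit 0) (nat_lit 1) = true := by decide +kernel
theorem cZSBc11_h : 0 < cZSBc11.n ∧ 0 < cZSBc11.K ∧ cZSBc11.Pt 0 < 4560 ∧ cZSBc11.Q (cZSBc11.Pt 0) = 0 := by decide +kernel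
theorem cZSBtn0_0 : (Nat.ble cZSBtl11.K 50 && Nat.beq (ltAll 4560 [cZSBtl10.Pt 0, cZSBtl9.Pt 0, cZSBtl8.Pt 0, cZSBtl7.Pt 0, cZSBtl6.Pt 0, cZSBtl5.Pt 0, cZSBtl4.Pt 0, cZSBtl3.Pt 0, cZSBtl2.Pt 0, cZSBtl1.Pt 0, cZSBtl0.Pt 0]) 0 && kChk cZSBe_P (rl [nat_lit 10, nat_lit 20] F_P) cZSBtn0.Kn 2 H15.XCo1C.B [cZSBtl10.Pt 0, cZSBtl9.Pt 0, cZSBtl8.Pt 0, cZSBtl7.Pt 0, cZSBtl6.Pt 0, cZSBtl5.Pt 0, cZSBtl4.Pt 0, cZSBtl3.Pt 0, cZSBtl2.Pt 0, cZSBtl1.Pt 0, cZSBtl0.Pt 0] && allL (ltAll 2) cZSBtn0.pre && planOK cZSBth_P (rl [nat_lit 10, nat_lit 20] F_P) 2 (cZSBtl11.Pt 0) cZSBtn0.plan [cZSBtl11]) = true := by decide +kernel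
theorem cZSBtn0_1_0 : allZ (cZSBtn0.ent F_P cZSBth_P (rl [nat_lit 10, nat_lit 20] F_P) (rl [nat_lit 10, nat_lit 20] F_P) cZSBe_P (nat_lit 40) (nat_lit 2) H15.XCo1C.B cZSBtl11 [] (memO cZSBc11)) (nat_lit 0) (nat_lit 2) = true := by decide +kernel
theorem cZSB_f11 : (Nat.ble cZSBc11.K 4 && Nat.ble (topK []) cZSBc11.K && Nat.beq (cZSBc11.Pt 0) (cZSBtl11.Pt 0) && Nat.beq (ltAll 4560 [cZSBtl10.Pt 0, cZSBtl9.Pt 0, cZSBtl8.Pt 0, cZSBtl7.Pt 0, cZSBtl6.Pt 0, cZSBtl5.Pt 0, cZSBtl4.Pt 0, cZSBtl3.Pt 0, cZSBtl2.Pt 0, cZSBtl1.Pt 0, cZSBtl0.Pt 0]) 0 && kChk cZSBe_P (rl [nat_lit 10, nat_lit 20] F_P) cZSBc11.K 2 H15.XCo1C.B [cZSBtl10.Pt 0, cZSBtl9.Pt 0, cZSBtl8.Pt 0, cZSBtl7.Pt 0, cZSBtl6.Pt 0, cZSBtl5.Pt 0, cZSBtl4.Pt 0, cZSBtl3.Pt 0, cZSBtl2.Pt 0, cZSBtl1.Pt 0, cZSBtl0.Pt 0]) = true := by decide +kernel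
theorem cZSB_f10 : (Nat.ble cZSBtl10.K 50 && Nat.blt (nat_lit 99) 4560 && fixLetters cZSBth_P cZSBtl10.K (nat_lit 99) && Nat.beq (ltAll 2 [nat_lit 1, nat_lit 1, nat_lit 1]) 0 && Nat.beq (apW (rl [nat_lit 10, nat_lit 20] F_P) [nat_lit 1, nat_lit 1, nat_lit 1] (nat_lit 99)) (cZSBtl10.Pt 0)) = true := by decide +kernel
theorem cZSB_f9 : (Nat.ble cZSBtl9.K 50 && Nat.blt (nat_lit 99) 4560 && fixLetters cZSBth_P cZSBtl9.K (nat_lit 99) && Nat.beq (ltAll 2 [nat_lit 1, nat_lit 1]) 0 && Nat.beq (apW (rl [nat_lit 10, nat_lit 20] F_P) [nat_lit 1, nat_lit 1] (nat_lit 99)) (cZSBtl9.Pt 0)) = true := by decide +kernel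
theorem cZSB_f8 : (Nat.ble cZSBtl8.K 50 && Nat.blt (nat_lit 99) 4560 && fixLetters cZSBth_P cZSBtl8.K (nat_lit 99) && Nat.beq (ltAll 2 [nat_lit 1]) 0 && Nat.beq (apW (rl [nat_lit 10, nat_lit 20] F_P) [nat_lit 1] (nat_lit 99)) (cZSBtl8.Pt 0)) = true := by decide +kernel
theorem cZSBc7_e_0 : allZ (dent cZSBc7 cZSBe_P (nat_lit 4560)) (nat_lit 0) (nat_lit 1) = true := by decide +kernel
theorem cZSBc7_h : 0 < cZSBc7.n ∧ 0 < cZSBc7.K ∧ cZSBc7.Pt 0 < 4560 ∧ cZSBc7.Q (cZSBc7.Pt 0) = 0 := by decide +kernel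
theorem cZSBtn1_0 : (Nat.ble cZSBtl7.K 50 && Nat.beq (ltAll 4560 [cZSBtl6.Pt 0, cZSBtl5.Pt 0, cZSBtl4.Pt 0, cZSBtl3.Pt 0, cZSBtl2.Pt 0, cZSBtl1.Pt 0, cZSBtl0.Pt 0]) 0 && kChk cZSBe_P (rl [nat_lit 10, nat_lit 20] F_P) cZSBtn1.Kn 2 H15.XCo1C.B [cZSBtl6.Pt 0, cZSBtl5.Pt 0, cZSBtl4.Pt 0, cZSBtl3.Pt 0, cZSBtl2.Pt 0, cZSBtl1.Pt 0, cZSBtl0.Pt 0] && allL (ltAll 2) cZSBtn1.pre && planOK cZSBth_P (rl [nat_lit 10, nat_lit 20] F_P) 2 (cZSBtl7.Pt 0) cZSBtn1.plan [cZSBtl7, cZSBtl8, cZSBtl9, cZSBtl10, cZSBtl11]) = true := by decide +kernel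
theorem cZSBtn1_1_0 : allZ (cZSBtn1.ent F_P cZSBth_P (rl [nat_lit 10, nat_lit 20] F_P) (rl [nat_lit 10, nat_lit 20] F_P) cZSBe_P (nat_lit 40) (nat_lit 2) H15.XCo1C.B cZSBtl7 [cZSBtl8, cZSBtl9, cZSBtl10, cZSBtl11] (memO cZSBc7)) (nat_lit 0) (nat_lit 32) = true := by decide +kernel
theorem cZSB_f7 : (Nat.ble cZSBc7.K 4 && Nat.ble (topK [cZSBc11]) cZSBc7.K && Nat.beq (cZSBc7.Pt 0) (cZSBtl7.Pt 0) && Nat.beq (ltAll 4560 [cZSBtl6.Pt 0, cZSBtl5.Pt 0, cZSBtl4.Pt 0, cZSBtl3.Pt 0, cZSBtl2.Pt 0, cZSBtl1.Pt 0, cZSBtl0.Pt 0]) 0 && kChk cZSBe_P (rl [nat_lit 10, nat_lit 20] F_P) cZSBc7.K 2 H15.XCo1C.B [cZSBtl6.Pt 0, cZSBtl5.Pt 0, cZSBtl4.Pt 0, cZSBtl3.Pt 0, cZSBtl2.Pt 0, cZSBtl1.Pt 0, cZSBtl0.Pt 0]) = true := by decide +kernel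
theorem cZSB_f6 : (Nat.ble cZSBtl6.K 50 && Nat.blt (nat_lit 36) 4560 && fixLetters cZSBth_P cZSBtl6.K (nat_lit 36) && Nat.beq (ltAll 2 [nat_lit 1, nat_lit 1, nat_lit 1, nat_lit 1, nat_lit 1]) 0 && Nat.beq (apW (rl [nat_lit 10, nat_lit 20] F_P) [nat_lit 1, nat_lit 1, nat_lit 1, nat_lit 1, nat_lit 1] (nat_lit 36)) (cZSBtl6.Pt 0)) = true := by decide +kernel
theorem cZSB_f5 : (Nat.ble cZSBtl5.K 50 && Nat.blt (nat_lit 36) 4560 && fixLetters cZSBth_P cZSBtl5.K (nat_lit 36) && Nat.beq (ltAll 2 [nat_lit 1, nat_lit 1, nat_lit 1, nat_lit 1]) 0 && Nat.beq (apW (rl [nat_lit 10, nat_lit 20] F_P) [nat_lit 1, nat_lit 1, nat_lit 1, nat_lit 1] (nat_lit 36)) (cZSBtl5.Pt 0)) = true := by decide +kernel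
theorem cZSB_f4 : (Nat.ble cZSBtl4.K 50 && Nat.blt (nat_lit 36) 4560 && fixLetters cZSBth_P cZSBtl4.K (nat_lit 36) && Nat.beq (ltAll 2 [nat_lit 1, nat_lit 1, nat_lit 1]) 0 && Nat.beq (apW (rl [nat_lit 10, nat_lit 20] F_P) [nat_lit 1, nat_lit 1, nat_lit 1] (nat_lit 36)) (cZSBtl4.Pt 0)) = true := by decide +kernel
theorem cZSB_f3 : (Nat.ble cZSBtl3.K 50 && Nat.blt (nat_lit 36) 4560 && fixLetters cZSBth_P cZSBtl3.K (nat_lit 36) && Nat.beq (ltAll 2 [nat_lit 1, nat_lit 1]) 0 && Nat.beq (apW (rl [nat_lit 10, nat_lit 20] F_P) [nat_lit 1, nat_lit 1] (nat_lit 36)) (cZSBtl3.Pt 0)) = true := by decide +kernel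
theorem cZSB_f2 : (Nat.ble cZSBtl2.K 50 && Nat.blt (nat_lit 36) 4560 && fixLetters cZSBth_P cZSBtl2.K (nat_lit 36) && Nat.beq (ltAll 2 [nat_lit 1]) 0 && Nat.beq (apW (rl [nat_lit 10, nat_lit 20] F_P) [nat_lit 1] (nat_lit 36)) (cZSBtl2.Pt 0)) = true := by decide +kernel
theorem cZSBc1_e_0 : allZ (dent cZSBc1 cZSBe_P (nat_lit 4560)) (nat_lit 0) (nat_lit 6) = true := by decide +kernel
theorem cZSBc1_h : 0 < cZSBc1.n ∧ 0 < cZSBc1.K ∧ cZSBc1.Pt 0 < 4560 ∧ cZSBc1.Q (cZSBc1.Pt 0) = 0 := by decide +kernel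
theorem cZSBtn2_0 : (Nat.ble cZSBtl1.K 50 && Nat.beq (ltAll 4560 [cZSBtl0.Pt 0]) 0 && kChk cZSBe_P (rl [nat_lit 10, nat_lit 20] F_P) cZSBtn2.Kn 2 H15.XCo1C.B [cZSBtl0.Pt 0] && allL (ltAll 2) cZSBtn2.pre && planOK cZSBth_P (rl [nat_lit 10, nat_lit 20] F_P) 2 (cZSBtl1.Pt 0) cZSBtn2.plan [cZSBtl1, cZSBtl2, cZSBtl3, cZSBtl4, cZSBtl5, cZSBtl6, cZSBtl7, cZSBtl8, cZSBtl9, cZSBtl10, cZSBtl11]) = true := by decide +kernel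
theorem cZSBtn2_1_0 : allZ (cZSBtn2.ent F_P cZSBth_P (rl [nat_lit 10, nat_lit 20] F_P) (rl [nat_lit 10, nat_lit 20] F_P) cZSBe_P (nat_lit 40) (nat_lit 2) H15.XCo1C.B cZSBtl1 [cZSBtl2, cZSBtl3, cZSBtl4, cZSBtl5, cZSBtl6, cZSBtl7, cZSBtl8, cZSBtl9, cZSBtl10, cZSBtl11] (memO cZSBc1)) (nat_lit 0) (nat_lit 56) = true := by decide +kernel
theorem cZSB_f1 : (Nat.ble cZSBc1.K 4 && Nat.ble (topK [cZSBc7, cZSBc11]) cZSBc1.K && Nat.beq (cZSBc1.Pt 0) (cZSBtl1.Pt 0) && Nat.beq (ltAll 4560 [cZSBtl0.Pt 0]) 0 && kChk cZSBe_P (rl [nat_lit 10, nat_lit 20] F_P) cZSBc1.K 2 H15.XCo1C.B [cZSBtl0.Pt 0]) = true := by decide +kernel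
theorem cZSBc0_e_0 : allZ (dent cZSBc0 cZSBe_P (nat_lit 4560)) (nat_lit 0) (nat_lit 1) = true := by decide +kernel
theorem cZSBc0_h : 0 < cZSBc0.n ∧ 0 < cZSBc0.K ∧ cZSBc0.Pt 0 < 4560 ∧ cZSBc0.Q (cZSBc0.Pt 0) = 0 := by decide +kernel
theorem cZSBtn3_0 : (Nat.ble cZSBtl0.K 50 && Nat.beq (ltAll 4560 []) 0 && kChk cZSBe_P (rl [nat_lit 10, nat_lit 20] F_P) cZSBtn3.Kn 2 H15.XCo1C.B [] && allL (ltAll 2) cZSBtn3.pre && planOK cZSBth_P (rl [nat_lit 10, nat_lit 20] F_P) 2 (cZSBtl0.Pt 0) cZSBtn3.plan [cZSBtl0, cZSBtl1, cZSBtl2, cZSBtl3, cZSBtl4, cZSBtl5, cZSBtl6, cZSBtl7, cZSBtl8, cZSBtl9, cZSBtl10, cZSBtl11]) = true := by decide +kernel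
theorem cZSBtn3_1_0 : allZ (cZSBtn3.ent F_P cZSBth_P (rl [nat_lit 10, nat_lit 20] F_P) (rl [nat_lit 10, nat_lit 20] F_P) cZSBe_P (nat_lit 40) (nat_lit 2) H15.XCo1C.B cZSBtl0 [cZSBtl1, cZSBtl2, cZSBtl3, cZSBtl4, cZSBtl5, cZSBtl6, cZSBtl7, cZSBtl8, cZSBtl9, cZSBtl10, cZSBtl11] (memO cZSBc0)) (nat_lit 0) (nat_lit 240) = true := by decide +kernel
theorem cZSB_f0 : (Nat.ble cZSBc0.K 4 && Nat.ble (topK [cZSBc1, cZSBc7, cZSBc11]) cZSBc0.K && Nat.beq (cZSBc0.Pt 0) (cZSBtl0.Pt 0) && Nat.beq (ltAll 4560 []) 0 && kChk cZSBe_P (rl [nat_lit 10, nat_lit 20] F_P) cZSBc0.K 2 H15.XCo1C.B []) = true := by decide +kernel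
theorem cZSB_c : chainCard [cZSBc0, cZSBc1, cZSBc7, cZSBc11] = 56 ∧ topK [cZSBc0, cZSBc1, cZSBc7, cZSBc11] = 4 := by decide +kernel
theorem cZSB_le_k : allZ (fun a => Nat.add (ltAll 4 (nth [] [[nat_lit 1, nat_lit 2],
  [nat_lit 1],
  [nat_lit 0, nat_lit 0, nat_lit 0, nat_lit 0, nat_lit 0, nat_lit 0, nat_lit 1],
  [nat_lit 1, nat_lit 2, nat_lit 3]] a)) (sumL (fun β => Nat.xor (cZSBe_P a β) (apW (rl [nat_lit 20, nat_lit 9, nat_lit 10, nat_lit 14] F_P) (nth [] [[nat_lit 1, nat_lit 2],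
  [nat_lit 1],
  [nat_lit 0, nat_lit 0, nat_lit 0, nat_lit 0, nat_lit 0, nat_lit 0, nat_lit 1],
  [nat_lit 1, nat_lit 2, nat_lit 3]] a) β)) H15.XCo1C.B)) 0 4 = true := by decide +kernel
theorem cSAth_lt : allL (ltAll 40) cSAth_W = true := by decide +kernel
theorem cSAtl0_e_0 : allZ (dent cSAtl0 cSAth_P (nat_lit 4560)) (nat_lit 0) (nat_lit 239) = true := by decide +kernel
theorem cSAtl0_h : 0 < cSAtl0.n ∧ 0 < cSAtl0.K ∧ cSAtl0.Pt 0 < 4560 ∧ cSAtl0.Q (cSAtl0.Pt 0) = 0 := by decide +kernel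
theorem cSAtl1_e_0 : allZ (dent cSAtl1 cSAth_P (nat_lit 4560)) (nat_lit 0) (nat_lit 55) = true := by decide +kernel
theorem cSAtl1_h : 0 < cSAtl1.n ∧ 0 < cSAtl1.K ∧ cSAtl1.Pt 0 < 4560 ∧ cSAtl1.Q (cSAtl1.Pt 0) = 0 := by decide +kernel
theorem cSAtl2_e_0 : allZ (dent cSAtl2 cSAth_P (nat_lit 4560)) (nat_lit 0) (nat_lit 26) = true := by decide +kernel
theorem cSAtl2_h : 0 < cSAtl2.n ∧ 0 < cSAtl2.K ∧ cSAtl2.Pt 0 < 4560 ∧ cSAtl2.Q (cSAtl2.Pt 0) = 0 := by decide +kernel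
theorem cSAtl3_e_0 : allZ (dent cSAtl3 cSAth_P (nat_lit 4560)) (nat_lit 0) (nat_lit 9) = true := by decide +kernel
theorem cSAtl3_h : 0 < cSAtl3.n ∧ 0 < cSAtl3.K ∧ cSAtl3.Pt 0 < 4560 ∧ cSAtl3.Q (cSAtl3.Pt 0) = 0 := by decide +kernel
theorem cSAtl4_e_0 : allZ (dent cSAtl4 cSAth_P (nat_lit 4560)) (nat_lit 0) (nat_lit 7) = true := by decide +kernel
theorem cSAtl4_h : 0 < cSAtl4.n ∧ 0 < cSAtl4.K ∧ cSAtl4.Pt 0 < 4560 ∧ cSAtl4.Q (cSAtl4.Pt 0) = 0 := by decide +kernel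
theorem cSAtl5_e_0 : allZ (dent cSAtl5 cSAth_P (nat_lit 4560)) (nat_lit 0) (nat_lit 3) = true := by decide +kernel
theorem cSAtl5_h : 0 < cSAtl5.n ∧ 0 < cSAtl5.K ∧ cSAtl5.Pt 0 < 4560 ∧ cSAtl5.Q (cSAtl5.Pt 0) = 0 := by decide +kernel
theorem cSAtl6_e_0 : allZ (dent cSAtl6 cSAth_P (nat_lit 4560)) (nat_lit 0) (nat_lit 2) = true := by decide +kernel
theorem cSAtl6_h : 0 < cSAtl6.n ∧ 0 < cSAtl6.K ∧ cSAtl6.Pt 0 < 4560 ∧ cSAtl6.Q (cSAtl6.Pt 0) = 0 := by decide +kernel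
theorem cSAtl7_e_0 : allZ (dent cSAtl7 cSAth_P (nat_lit 4560)) (nat_lit 0) (nat_lit 31) = true := by decide +kernel
theorem cSAtl7_h : 0 < cSAtl7.n ∧ 0 < cSAtl7.K ∧ cSAtl7.Pt 0 < 4560 ∧ cSAtl7.Q (cSAtl7.Pt 0) = 0 := by decide +kernel
theorem cSAtl8_e_0 : allZ (dent cSAtl8 cSAth_P (nat_lit 4560)) (nat_lit 0) (nat_lit 1) = true := by decide +kernel
theorem cSAtl8_h : 0 < cSAtl8.n ∧ 0 < cSAtl8.K ∧ cSAtl8.Pt 0 < 4560 ∧ cSAtl8.Q (cSAtl8.Pt 0) = 0 := by decide +kernel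
theorem cSAtl9_e_0 : allZ (dent cSAtl9 cSAth_P (nat_lit 4560)) (nat_lit 0) (nat_lit 1) = true := by decide +kernel
theorem cSAtl9_h : 0 < cSAtl9.n ∧ 0 < cSAtl9.K ∧ cSAtl9.Pt 0 < 4560 ∧ cSAtl9.Q (cSAtl9.Pt 0) = 0 := by decide +kernel
theorem cSAtl10_e_0 : allZ (dent cSAtl10 cSAth_P (nat_lit 4560)) (nat_lit 0) (nat_lit 1) = true := by decide +kernel
theorem cSAtl10_h : 0 < cSAtl10.n ∧ 0 < cSAtl10.K ∧ cSAtl10.Pt 0 < 4560 ∧ cSAtl10.Q (cSAtl10.Pt 0) = 0 := by decide +kernel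
theorem cSAtl11_e_0 : allZ (dent cSAtl11 cSAth_P (nat_lit 4560)) (nat_lit 0) (nat_lit 1) = true := by decide +kernel
theorem cSAtl11_h : 0 < cSAtl11.n ∧ 0 < cSAtl11.K ∧ cSAtl11.Pt 0 < 4560 ∧ cSAtl11.Q (cSAtl11.Pt 0) = 0 := by decide +kernel
theorem cSAt_f11 : (Nat.ble cSAtl11.K 50 && Nat.ble (topK []) cSAtl11.K && fixLetters cSAth_P (topK []) (cSAtl11.Pt 0)) = true := by decide +kernel
theorem cSAt_f10 : (Nat.ble cSAtl10.K 50 && Nat.ble (topK [cSAtl11]) cSAtl10.K && fixLetters cSAth_P (topK [cSAtl11]) (cSAtl10.Pt 0)) = true := by decide +kernel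
theorem cSAt_f9 : (Nat.ble cSAtl9.K 50 && Nat.ble (topK [cSAtl10, cSAtl11]) cSAtl9.K && fixLetters cSAth_P (topK [cSAtl10, cSAtl11]) (cSAtl9.Pt 0)) = true := by decide +kernel
theorem cSAt_f8 : (Nat.ble cSAtl8.K 50 && Nat.ble (topK [cSAtl9, cSAtl10, cSAtl11]) cSAtl8.K && fixLetters cSAth_P (topK [cSAtl9, cSAtl10, cSAtl11]) (cSAtl8.Pt 0)) = true := by decide +kernel
theorem cSAt_f7 : (Nat.ble cSAtl7.K 50 && Nat.ble (topK [cSAtl8, cSAtl9, cSAtl10, cSAtl11]) cSAtl7.K && fixLetters cSAth_P (topK [cSAtl8, cSAtl9, cSAtl10, cSAtl11]) (cSAtl7.Pt 0)) = true := by decide +kernel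
theorem cSAt_f6 : (Nat.ble cSAtl6.K 50 && Nat.ble (topK [cSAtl7, cSAtl8, cSAtl9, cSAtl10, cSAtl11]) cSAtl6.K && fixLetters cSAth_P (topK [cSAtl7, cSAtl8, cSAtl9, cSAtl10, cSAtl11]) (cSAtl6.Pt 0)) = true := by decide +kernel
theorem cSAt_f5 : (Nat.ble cSAtl5.K 50 && Nat.ble (topK [cSAtl6, cSAtl7, cSAtl8, cSAtl9, cSAtl10, cSAtl11]) cSAtl5.K && fixLetters cSAth_P (topK [cSAtl6, cSAtl7, cSAtl8, cSAtl9, cSAtl10, cSAtl11]) (cSAtl5.Pt 0)) = true := by decide +kernel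
theorem cSAt_f4 : (Nat.ble cSAtl4.K 50 && Nat.ble (topK [cSAtl5, cSAtl6, cSAtl7, cSAtl8, cSAtl9, cSAtl10, cSAtl11]) cSAtl4.K && fixLetters cSAth_P (topK [cSAtl5, cSAtl6, cSAtl7, cSAtl8, cSAtl9, cSAtl10, cSAtl11]) (cSAtl4.Pt 0)) = true := by decide +kernel
theorem cSAt_f3 : (Nat.ble cSAtl3.K 50 && Nat.ble (topK [cSAtl4, cSAtl5, cSAtl6, cSAtl7, cSAtl8, cSAtl9, cSAtl10, cSAtl11]) cSAtl3.K && fixLetters cSAth_P (topK [cSAtl4, cSAtl5, cSAtl6, cSAtl7, cSAtl8, cSAtl9, cSAtl10, cSAtl11]) (cSAtl3.Pt 0)) = true := by decide +kernel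
theorem cSAt_f2 : (Nat.ble cSAtl2.K 50 && Nat.ble (topK [cSAtl3, cSAtl4, cSAtl5, cSAtl6, cSAtl7, cSAtl8, cSAtl9, cSAtl10, cSAtl11]) cSAtl2.K && fixLetters cSAth_P (topK [cSAtl3, cSAtl4, cSAtl5, cSAtl6, cSAtl7, cSAtl8, cSAtl9, cSAtl10, cSAtl11]) (cSAtl2.Pt 0)) = true := by decide +kernel
theorem cSAt_f1 : (Nat.ble cSAtl1.K 50 && Nat.ble (topK [cSAtl2, cSAtl3, cSAtl4, cSAtl5, cSAtl6, cSAtl7, cSAtl8, cSAtl9, cSAtl10, cSAtl11]) cSAtl1.K && fixLetters cSAth_P (topK [cSAtl2, cSAtl3, cSAtl4, cSAtl5, cSAtl6, cSAtl7, cSAtl8, cSAtl9, cSAtl10, cSAtl11]) (cSAtl1.Pt 0)) = true := by decide +kernel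
theorem cSAt_f0 : (Nat.ble cSAtl0.K 50 && Nat.ble (topK [cSAtl1, cSAtl2, cSAtl3, cSAtl4, cSAtl5, cSAtl6, cSAtl7, cSAtl8, cSAtl9, cSAtl10, cSAtl11]) cSAtl0.K && fixLetters cSAth_P (topK [cSAtl1, cSAtl2, cSAtl3, cSAtl4, cSAtl5, cSAtl6, cSAtl7, cSAtl8, cSAtl9, cSAtl10, cSAtl11]) (cSAtl0.Pt 0)) = true := by decide +kernel
theorem cSAt_c : chainCard [cSAtl0, cSAtl1, cSAtl2, cSAtl3, cSAtl4, cSAtl5, cSAtl6, cSAtl7, cSAtl8, cSAtl9, cSAtl10, cSAtl11] = 178362777600 := by decide +kernel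
theorem cSAe_lt : allL (ltAll 40) cSAe_W = true := by decide +kernel
theorem cSAc11_e_0 : allZ (dent cSAc11 cSAe_P (nat_lit 4560)) (nat_lit 0) (nat_lit 1) = true := by decide +kernel
theorem cSAc11_h : 0 < cSAc11.n ∧ 0 < cSAc11.K ∧ cSAc11.Pt 0 < 4560 ∧ cSAc11.Q (cSAc11.Pt 0) = 0 := by decide +kernel
theorem cSAtn0_0 : (Nat.ble cSAtl11.K 50 && Nat.beq (ltAll 4560 [cSAtl10.Pt 0, cSAtl9.Pt 0, cSAtl8.Pt 0, cSAtl7.Pt 0, cSAtl6.Pt 0, cSAtl5.Pt 0, cSAtl4.Pt 0, cSAtl3.Pt 0, cSAtl2.Pt 0, cSAtl1.Pt 0, cSAtl0.Pt 0]) 0 && kChk cSAe_P (rl [nat_lit 10, nat_lit 34] F_P) cSAtn0.Kn 2 H15.XCo1C.B [cSAtl10.Pt 0, cSAtl9.Pt 0, cSAtl8.Pt 0, cSAtl7.Pt 0, cSAtl6.Pt 0, cSAtl5.Pt 0, cSAtl4.Pt 0, cSAtl3.Pt 0, cSAtl2.Pt 0, cSAtl1.Pt 0, cSAtl0.Pt 0] && allL (ltAll 2) cSAtn0.pre && planOK cSAth_P (rl [nat_lit 10, nat_lit 34] F_P) 2 (cSAtl11.Pt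 0) cSAtn0.plan [cSAtl11]) = true := by decide +kernel
theorem cSAtn0_1_0 : allZ (cSAtn0.ent F_P cSAth_P (rl [nat_lit 10, nat_lit 34] F_P) (rl [nat_lit 10, nat_lit 34] F_P) cSAe_P (nat_lit 40) (nat_lit 2) H15.XCo1C.B cSAtl11 [] (memO cSAc11)) (nat_lit 0) (nat_lit 2) = true := by decide +kernel
theorem cSA_f11 : (Nat.ble cSAc11.K 9 && Nat.ble (topK []) cSAc11.K && Nat.beq (cSAc11.Pt 0) (cSAtl11.Pt 0) && Nat.beq (ltAll 4560 [cSAtl10.Pt 0, cSAtl9.Pt 0, cSAtl8.Pt 0, cSAtl7.Pt 0, cSAtl6.Pt 0, cSAtl5.Pt 0, cSAtl4.Pt 0, cSAtl3.Pt 0, cSAtl2.Pt 0, cSAtl1.Pt 0, cSAtl0.Pt 0]) 0 && kChk cSAe_P (rl [nat_lit 10, nat_lit 34] F_P) cSAc11.K 2 H15.XCo1C.B [cSAtl10.Pt 0, cSAtl9.Pt 0, cSAtl8.Pt 0, cSAtl7.Pt 0, cSAtl6.Pt 0, cSAtl5.Pt 0, cSAtl4.Pt 0, cSAtl3.Pt 0, cSAtl2.Pt 0, cSAtl1.Pt 0, cSAtl0.Pt 0]) = true := by decide +kernel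
theorem cSAc10_e_0 : allZ (dent cSAc10 cSAe_P (nat_lit 4560)) (nat_lit 0) (nat_lit 1) = true := by decide +kernel
theorem cSAc10_h : 0 < cSAc10.n ∧ 0 < cSAc10.K ∧ cSAc10.Pt 0 < 4560 ∧ cSAc10.Q (cSAc10.Pt 0) = 0 := by decide +kernel
theorem cSAtn1_0 : (Nat.ble cSAtl10.K 50 && Nat.beq (ltAll 4560 [cSAtl9.Pt 0, cSAtl8.Pt 0, cSAtl7.Pt 0, cSAtl6.Pt 0, cSAtl5.Pt 0, cSAtl4.Pt 0, cSAtl3.Pt 0, cSAtl2.Pt 0, cSAtl1.Pt 0, cSAtl0.Pt 0]) 0 && kChk cSAe_P (rl [nat_lit 10, nat_lit 34] F_P) cSAtn1.Kn 2 H15.XCo1C.B [cSAtl9.Pt 0, cSAtl8.Pt 0, cSAtl7.Pt 0, cSAtl6.Pt 0, cSAtl5.Pt 0, cSAtl4.Pt 0, cSAtl3.Pt 0, cSAtl2.Pt 0, cSAtl1.Pt 0, cSAtl0.Pt 0] && allL (ltAll 2) cSAtn1.pre && planOK cSAth_P (rl [nat_lit 10, nat_lit 34] F_P) 2 (cSAtl10.Pt 0) cSAtn1.plan [cSAtl10, cSAtl11]) = true := by decide +kernel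
theorem cSAtn1_1_0 : allZ (cSAtn1.ent F_P cSAth_P (rl [nat_lit 10, nat_lit 34] F_P) (rl [nat_lit 10, nat_lit 34] F_P) cSAe_P (nat_lit 40) (nat_lit 2) H15.XCo1C.B cSAtl10 [cSAtl11] (memO cSAc10)) (nat_lit 0) (nat_lit 2) = true := by decide +kernel
theorem cSA_f10 : (Nat.ble cSAc10.K 9 && Nat.ble (topK [cSAc11]) cSAc10.K && Nat.beq (cSAc10.Pt 0) (cSAtl10.Pt 0) && Nat.beq (ltAll 4560 [cSAtl9.Pt 0, cSAtl8.Pt 0, cSAtl7.Pt 0, cSAtl6.Pt 0, cSAtl5.Pt 0, cSAtl4.Pt 0, cSAtl3.Pt 0, cSAtl2.Pt 0, cSAtl1.Pt 0, cSAtl0.Pt 0]) 0 && kChk cSAe_P (rl [nat_lit 10, nat_lit 34] F_P) cSAc10.K 2 H15.XCo1C.B [cSAtl9.Pt 0, cSAtl8.Pt 0, cSAtl7.Pt 0, cSAtl6.Pt 0, cSAtl5.Pt 0, cSAtl4.Pt 0, cSAtl3.Pt 0, cSAtl2.Pt 0, cSAtl1.Pt 0, cSAtl0.Pt 0]) = true := by decide +kernel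
theorem cSA_f9 : (Nat.ble cSAtl9.K 50 && Nat.blt (nat_lit 1) 4560 && fixLetters cSAth_P cSAtl9.K (nat_lit 1) && Nat.beq (ltAll 2 [nat_lit 1, nat_lit 1]) 0 && Nat.beq (apW (rl [nat_lit 10, nat_lit 34] F_P) [nat_lit 1, nat_lit 1] (nat_lit 1)) (cSAtl9.Pt 0)) = true := by decide +kernel
theorem cSA_f8 : (Nat.ble cSAtl8.K 50 && Nat.blt (nat_lit 1) 4560 && fixLetters cSAth_P cSAtl8.K (nat_lit 1) && Nat.beq (ltAll 2 [nat_lit 1]) 0 && Nat.beq (apW (rl [nat_lit 10, nat_lit 34] F_P) [nat_lit 1] (nat_lit 1)) (cSAtl8.Pt 0)) = true := by decide +kernel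
theorem cSAc7_e_0 : allZ (dent cSAc7 cSAe_P (nat_lit 4560)) (nat_lit 0) (nat_lit 3) = true := by decide +kernel
theorem cSAc7_h : 0 < cSAc7.n ∧ 0 < cSAc7.K ∧ cSAc7.Pt 0 < 4560 ∧ cSAc7.Q (cSAc7.Pt 0) = 0 := by decide +kernel
theorem cSAtn2_0 : (Nat.ble cSAtl7.K 50 && Nat.beq (ltAll 4560 [cSAtl6.Pt 0, cSAtl5.Pt 0, cSAtl4.Pt 0, cSAtl3.Pt 0, cSAtl2.Pt 0, cSAtl1.Pt 0, cSAtl0.Pt 0]) 0 && kChk cSAe_P (rl [nat_lit 10, nat_lit 34] F_P) cSAtn2.Kn 2 H15.XCo1C.B [cSAtl6.Pt 0, cSAtl5.Pt 0, cSAtl4.Pt 0, cSAtl3.Pt 0, cSAtl2.Pt 0, cSAtl1.Pt 0, cSAtl0.Pt 0] && allL (ltAll 2) cSAtn2.pre && planOK cSAth_P (rl [nat_lit 10, nat_lit 34] F_P) 2 (cSAtl7.Pt 0) cSAtn2.plan [cSAtl7, cSAtl8, cSAtl9, cSAtl10, cSAtl11]) = true := by decide +kernel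
theorem cSAtn2_1_0 : allZ (cSAtn2.ent F_P cSAth_P (rl [nat_lit 10, nat_lit 34] F_P) (rl [nat_lit 10, nat_lit 34] F_P) cSAe_P (nat_lit 40) (nat_lit 2) H15.XCo1C.B cSAtl7 [cSAtl8, cSAtl9, cSAtl10, cSAtl11] (memO cSAc7)) (nat_lit 0) (nat_lit 32) = true := by decide +kernel
theorem cSA_f7 : (Nat.ble cSAc7.K 9 && Nat.ble (topK [cSAc10, cSAc11]) cSAc7.K && Nat.beq (cSAc7.Pt 0) (cSAtl7.Pt 0) && Nat.beq (ltAll 4560 [cSAtl6.Pt 0, cSAtl5.Pt 0, cSAtl4.Pt 0, cSAtl3.Pt 0, cSAtl2.Pt 0, cSAtl1.Pt 0, cSAtl0.Pt 0]) 0 && kChk cSAe_P (rl [nat_lit 10, nat_lit 34] F_P) cSAc7.K 2 H15.XCo1C.B [cSAtl6.Pt 0, cSAtl5.Pt 0, cSAtl4.Pt 0, cSAtl3.Pt 0, cSAtl2.Pt 0, cSAtl1.Pt 0, cSAtl0.Pt 0]) = true := by decide +kernel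
theorem cSA_f6 : (Nat.ble cSAtl6.K 50 && Nat.blt (nat_lit 37) 4560 && fixLetters cSAth_P cSAtl6.K (nat_lit 37) && Nat.beq (ltAll 2 [nat_lit 1, nat_lit 1]) 0 && Nat.beq (apW (rl [nat_lit 10, nat_lit 34] F_P) [nat_lit 1, nat_lit 1] (nat_lit 37)) (cSAtl6.Pt 0)) = true := by decide +kernel
theorem cSA_f5 : (Nat.ble cSAtl5.K 50 && Nat.blt (nat_lit 37) 4560 && fixLetters cSAth_P cSAtl5.K (nat_lit 37) && Nat.beq (ltAll 2 [nat_lit 1]) 0 && Nat.beq (apW (rl [nat_lit 10, nat_lit 34] F_P) [nat_lit 1] (nat_lit 37)) (cSAtl5.Pt 0)) = true := by decide +kernel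
theorem cSAtn3y4120_lt : allL (ltAll 40) cSAtn3y4120_W = true := by decide +kernel
theorem cSAtr4k_lt : allL (ltAll 40) cSAtr4k_W = true := by decide +kernel
theorem cSAtn4_0 : (Nat.ble cSAtl7.K 50 && Nat.beq (ltAll 4560 [cSAtl6.Pt 0, cSAtl5.Pt 0, cSAtl4.Pt 0, cSAtl3.Pt 0, cSAtl2.Pt 0, cSAtl1.Pt 0, cSAtl0.Pt 0]) 0 && kChk cSAtr4k_P cSAtn3y4120_P cSAtn4.Kn 2 H15.XCo1C.B [cSAtl6.Pt 0, cSAtl5.Pt 0, cSAtl4.Pt 0, cSAtl3.Pt 0, cSAtl2.Pt 0, cSAtl1.Pt 0, cSAtl0.Pt 0] && allL (ltAll 2) cSAtn4.pre && planOK cSAth_P (rl [nat_lit 10, nat_lit 34] F_P) 2 (cSAtl7.Pt 0) cSAtn4.plan [cSAtl7, cSAtl8, cSAtl9, cSAtl10, cSAtl11]) = true := by decide +kernel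
theorem cSAtn4_1_0 : allZ (cSAtn4.ent F_P cSAth_P (rl [nat_lit 10, nat_lit 34] F_P) cSAtn3y4120_P cSAtr4k_P (nat_lit 40) (nat_lit 2) H15.XCo1C.B cSAtl7 [cSAtl8, cSAtl9, cSAtl10, cSAtl11] (fun _ => nat_lit 1)) (nat_lit 0) (nat_lit 32) = true := by decide +kernel
theorem cSAtn3y46_lt : allL (ltAll 40) cSAtn3y46_W = true := by decide +kernel
theorem cSAtr5k_lt : allL (ltAll 40) cSAtr5k_W = true := by decide +kernel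
theorem cSAtn5y4351_lt : allL (ltAll 40) cSAtn5y4351_W = true := by decide +kernel
theorem cSAtr6k_lt : allL (ltAll 40) cSAtr6k_W = true := by decide +kernel
theorem cSAtn6_0 : (Nat.ble cSAtl10.K 50 && Nat.beq (ltAll 4560 [cSAtl9.Pt 0, cSAtl8.Pt 0, cSAtl7.Pt 0, cSAtl6.Pt 0, cSAtl5.Pt 0, cSAtl4.Pt 0, cSAtl3.Pt 0, cSAtl2.Pt 0, cSAtl1.Pt 0, cSAtl0.Pt 0]) 0 && kChk cSAtr6k_P cSAtn5y4351_P cSAtn6.Kn 2 H15.XCo1C.B [cSAtl9.Pt 0, cSAtl8.Pt 0, cSAtl7.Pt 0, cSAtl6.Pt 0, cSAtl5.Pt 0, cSAtl4.Pt 0, cSAtl3.Pt 0, cSAtl2.Pt 0, cSAtl1.Pt 0, cSAtl0.Pt 0] && allL (ltAll 2) cSAtn6.pre && planOK cSAth_P (rl [nat_lit 10, nat_lit 34] F_P) 2 (cSAtl10.Pt 0) cSAtn6.plan [cSAtl10, cSAtl11]) = true := by decide +kernel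
theorem cSAtn6_1_0 : allZ (cSAtn6.ent F_P cSAth_P (rl [nat_lit 10, nat_lit 34] F_P) cSAtn5y4351_P cSAtr6k_P (nat_lit 40) (nat_lit 2) H15.XCo1C.B cSAtl10 [cSAtl11] (fun _ => nat_lit 1)) (nat_lit 0) (nat_lit 2) = true := by decide +kernel
theorem cSAtn5_0 : (Nat.ble cSAtl7.K 50 && Nat.beq (ltAll 4560 [cSAtl6.Pt 0, cSAtl5.Pt 0, cSAtl4.Pt 0, cSAtl3.Pt 0, cSAtl2.Pt 0, cSAtl1.Pt 0, cSAtl0.Pt 0]) 0 && kChk cSAtr5k_P cSAtn3y46_P cSAtn5.Kn 2 H15.XCo1C.B [cSAtl6.Pt 0, cSAtl5.Pt 0, cSAtl4.Pt 0, cSAtl3.Pt 0, cSAtl2.Pt 0, cSAtl1.Pt 0, cSAtl0.Pt 0] && allL (ltAll 2) cSAtn5.pre && planOK cSAth_P (rl [nat_lit 10, nat_lit 34] F_P) 2 (cSAtl7.Pt 0) cSAtn5.plan [cSAtl7, cSAtl8, cSAtl9, cSAtl10, cSAtl11]) = true := by decide +kernel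
theorem cSAtn5_1_0 : allZ (cSAtn5.ent F_P cSAth_P (rl [nat_lit 10, nat_lit 34] F_P) cSAtn3y46_P cSAtr5k_P (nat_lit 40) (nat_lit 2) H15.XCo1C.B cSAtl7 [cSAtl8, cSAtl9, cSAtl10, cSAtl11] (fun _ => nat_lit 1)) (nat_lit 0) (nat_lit 32) = true := by decide +kernel
theorem cSAtn3y3124_lt : allL (ltAll 40) cSAtn3y3124_W = true := by decide +kernel
theorem cSAtr7k_lt : allL (ltAll 40) cSAtr7k_W = true := by decide +kernel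
theorem cSAtn7y1_lt : allL (ltAll 40) cSAtn7y1_W = true := by decide +kernel
theorem cSAtr8k_lt : allL (ltAll 40) cSAtr8k_W = true := by decide +kernel
theorem cSAtn8y3_lt : allL (ltAll 40) cSAtn8y3_W = true := by decide +kernel
theorem cSAtr9k_lt : allL (ltAll 40) cSAtr9k_W = true := by decide +kernel
theorem cSAtn9_0 : (Nat.ble cSAtl11.K 50 && Nat.beq (ltAll 4560 [cSAtl10.Pt 0, cSAtl9.Pt 0, cSAtl8.Pt 0, cSAtl7.Pt 0, cSAtl6.Pt 0, cSAtl5.Pt 0, cSAtl4.Pt 0, cSAtl3.Pt 0, cSAtl2.Pt 0, cSAtl1.Pt 0, cSAtl0.Pt 0]) 0 && kChk cSAtr9k_P cSAtn8y3_P cSAtn9.Kn 2 H15.XCo1C.B [cSAtl10.Pt 0, cSAtl9.Pt 0, cSAtl8.Pt 0, cSAtl7.Pt 0, cSAtl6.Pt 0, cSAtl5.Pt 0, cSAtl4.Pt 0, cSAtl3.Pt 0, cSAtl2.Pt 0, cSAtl1.Pt 0, cSAtl0.Pt 0] && allL (ltAll 2) cSAtn9.pre && planOK cSAth_P (rl [nat_lit 10, nat_lit 34] F_P) 2 (cSAtl11.Pt 0) cSAtn9.plan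 [cSAtl11]) = true := by decide +kernel
theorem cSAtn9_1_0 : allZ (cSAtn9.ent F_P cSAth_P (rl [nat_lit 10, nat_lit 34] F_P) cSAtn8y3_P cSAtr9k_P (nat_lit 40) (nat_lit 2) H15.XCo1C.B cSAtl11 [] (fun _ => nat_lit 1)) (nat_lit 0) (nat_lit 2) = true := by decide +kernel
theorem cSAtn8_0 : (Nat.ble cSAtl10.K 50 && Nat.beq (ltAll 4560 [cSAtl9.Pt 0, cSAtl8.Pt 0, cSAtl7.Pt 0, cSAtl6.Pt 0, cSAtl5.Pt 0, cSAtl4.Pt 0, cSAtl3.Pt 0, cSAtl2.Pt 0, cSAtl1.Pt 0, cSAtl0.Pt 0]) 0 && kChk cSAtr8k_P cSAtn7y1_P cSAtn8.Kn 2 H15.XCo1C.B [cSAtl9.Pt 0, cSAtl8.Pt 0, cSAtl7.Pt 0, cSAtl6.Pt 0, cSAtl5.Pt 0, cSAtl4.Pt 0, cSAtl3.Pt 0, cSAtl2.Pt 0, cSAtl1.Pt 0, cSAtl0.Pt 0] && allL (ltAll 2) cSAtn8.pre && planOK cSAth_P (rl [nat_lit 10, nat_lit 34] F_P) 2 (cSAtl10.Pt 0) cSAtn8.plan [cSAtl10, cSAtl11]) = true := by decide +kernel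
theorem cSAtn8_1_0 : allZ (cSAtn8.ent F_P cSAth_P (rl [nat_lit 10, nat_lit 34] F_P) cSAtn7y1_P cSAtr8k_P (nat_lit 40) (nat_lit 2) H15.XCo1C.B cSAtl10 [cSAtl11] (fun _ => nat_lit 1)) (nat_lit 0) (nat_lit 2) = true := by decide +kernel
theorem cSAtn7_0 : (Nat.ble cSAtl7.K 50 && Nat.beq (ltAll 4560 [cSAtl6.Pt 0, cSAtl5.Pt 0, cSAtl4.Pt 0, cSAtl3.Pt 0, cSAtl2.Pt 0, cSAtl1.Pt 0, cSAtl0.Pt 0]) 0 && kChk cSAtr7k_P cSAtn3y3124_P cSAtn7.Kn 2 H15.XCo1C.B [cSAtl6.Pt 0, cSAtl5.Pt 0, cSAtl4.Pt 0, cSAtl3.Pt 0, cSAtl2.Pt 0, cSAtl1.Pt 0, cSAtl0.Pt 0] && allL (ltAll 2) cSAtn7.pre && planOK cSAth_P (rl [nat_lit 10, nat_lit 34] F_P) 2 (cSAtl7.Pt 0) cSAtn7.plan [cSAtl7, cSAtl8, cSAtl9, cSAtl10, cSAtl11]) = true := by decide +kernel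
theorem cSAtn7_1_0 : allZ (cSAtn7.ent F_P cSAth_P (rl [nat_lit 10, nat_lit 34] F_P) cSAtn3y3124_P cSAtr7k_P (nat_lit 40) (nat_lit 2) H15.XCo1C.B cSAtl7 [cSAtl8, cSAtl9, cSAtl10, cSAtl11] (fun _ => nat_lit 1)) (nat_lit 0) (nat_lit 32) = true := by decide +kernel
theorem cSAtn3y1719_lt : allL (ltAll 40) cSAtn3y1719_W = true := by decide +kernel
theorem cSAtr10k_lt : allL (ltAll 40) cSAtr10k_W = true := by decide +kernel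
theorem cSAtn10_0 : (Nat.ble cSAtl7.K 50 && Nat.beq (ltAll 4560 [cSAtl6.Pt 0, cSAtl5.Pt 0, cSAtl4.Pt 0, cSAtl3.Pt 0, cSAtl2.Pt 0, cSAtl1.Pt 0, cSAtl0.Pt 0]) 0 && kChk cSAtr10k_P cSAtn3y1719_P cSAtn10.Kn 2 H15.XCo1C.B [cSAtl6.Pt 0, cSAtl5.Pt 0, cSAtl4.Pt 0, cSAtl3.Pt 0, cSAtl2.Pt 0, cSAtl1.Pt 0, cSAtl0.Pt 0] && allL (ltAll 2) cSAtn10.pre && planOK cSAth_P (rl [nat_lit 10, nat_lit 34] F_P) 2 (cSAtl7.Pt 0) cSAtn10.plan [cSAtl7, cSAtl8, cSAtl9, cSAtl10, cSAtl11]) = true := by decide +kernel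
theorem cSAtn10_1_0 : allZ (cSAtn10.ent F_P cSAth_P (rl [nat_lit 10, nat_lit 34] F_P) cSAtn3y1719_P cSAtr10k_P (nat_lit 40) (nat_lit 2) H15.XCo1C.B cSAtl7 [cSAtl8, cSAtl9, cSAtl10, cSAtl11] (fun _ => nat_lit 1)) (nat_lit 0) (nat_lit 32) = true := by decide +kernel
theorem cSAtn3y47_lt : allL (ltAll 40) cSAtn3y47_W = true := by decide +kernel
theorem cSAtr11k_lt : allL (ltAll 40) cSAtr11k_W = true := by decide +kernel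
theorem cSAtn11_0 : (Nat.ble cSAtl7.K 50 && Nat.beq (ltAll 4560 [cSAtl6.Pt 0, cSAtl5.Pt 0, cSAtl4.Pt 0, cSAtl3.Pt 0, cSAtl2.Pt 0, cSAtl1.Pt 0, cSAtl0.Pt 0]) 0 && kChk cSAtr11k_P cSAtn3y47_P cSAtn11.Kn 2 H15.XCo1C.B [cSAtl6.Pt 0, cSAtl5.Pt 0, cSAtl4.Pt 0, cSAtl3.Pt 0, cSAtl2.Pt 0, cSAtl1.Pt 0, cSAtl0.Pt 0] && allL (ltAll 2) cSAtn11.pre && planOK cSAth_P (rl [nat_lit 10, nat_lit 34] F_P) 2 (cSAtl7.Pt 0) cSAtn11.plan [cSAtl7, cSAtl8, cSAtl9, cSAtl10, cSAtl11]) = true := by decide +kernel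
theorem cSAtn11_1_0 : allZ (cSAtn11.ent F_P cSAth_P (rl [nat_lit 10, nat_lit 34] F_P) cSAtn3y47_P cSAtr11k_P (nat_lit 40) (nat_lit 2) H15.XCo1C.B cSAtl7 [cSAtl8, cSAtl9, cSAtl10, cSAtl11] (fun _ => nat_lit 1)) (nat_lit 0) (nat_lit 32) = true := by decide +kernel
theorem cSAtn3_0 : (Nat.ble cSAtl4.K 50 && Nat.beq (ltAll 4560 [cSAtl3.Pt 0, cSAtl2.Pt 0, cSAtl1.Pt 0, cSAtl0.Pt 0]) 0 && kChk cSAe_P (rl [nat_lit 10, nat_lit 34] F_P) cSAtn3.Kn 2 H15.XCo1C.B [cSAtl3.Pt 0, cSAtl2.Pt 0, cSAtl1.Pt 0, cSAtl0.Pt 0] && allL (ltAll 2) cSAtn3.pre && planOK cSAth_P (rl [nat_lit 10, nat_lit 34] F_P) 2 (cSAtl4.Pt 0) cSAtn3.plan [cSAtl4, cSAtl5, cSAtl6, cSAtl7, cSAtl8, cSAtl9, cSAtl10, cSAtl11]) = true := by decide +kernel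
theorem cSAtn3_1_0 : allZ (cSAtn3.ent F_P cSAth_P (rl [nat_lit 10, nat_lit 34] F_P) (rl [nat_lit 10, nat_lit 34] F_P) cSAe_P (nat_lit 40) (nat_lit 2) H15.XCo1C.B cSAtl4 [cSAtl5, cSAtl6, cSAtl7, cSAtl8, cSAtl9, cSAtl10, cSAtl11] (fun w => Nat.xor w (cSAtl4.Pt (nat_lit 0)))) (nat_lit 0) (nat_lit 8) = true := by decide +kernel
theorem cSA_f3 : (Nat.ble cSAtl3.K 50 && Nat.blt (nat_lit 36) 4560 && fixLetters cSAth_P cSAtl3.K (nat_lit 36) && Nat.beq (ltAll 2 [nat_lit 1]) 0 && Nat.beq (apW (rl [nat_lit 10, nat_lit 34] F_P) [nat_lit 1] (nat_lit 36)) (cSAtl3.Pt 0)) = true := by decide +kernel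
theorem cSAc2_e_0 : allZ (dent cSAc2 cSAe_P (nat_lit 4560)) (nat_lit 0) (nat_lit 5) = true := by decide +kernel
theorem cSAc2_h : 0 < cSAc2.n ∧ 0 < cSAc2.K ∧ cSAc2.Pt 0 < 4560 ∧ cSAc2.Q (cSAc2.Pt 0) = 0 := by decide +kernel
theorem cSAtn12y1086_lt : allL (ltAll 40) cSAtn12y1086_W = true := by decide +kernel
theorem cSAtr13k_lt : allL (ltAll 40) cSAtr13k_W = true := by decide +kernel
theorem cSAtn13y37_lt : allL (ltAll 40) cSAtn13y37_W = true := by decide +kernel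
theorem cSAtr14k_lt : allL (ltAll 40) cSAtr14k_W = true := by decide +kernel
theorem cSAtn14_0 : (Nat.ble cSAtl7.K 50 && Nat.beq (ltAll 4560 [cSAtl6.Pt 0, cSAtl5.Pt 0, cSAtl4.Pt 0, cSAtl3.Pt 0, cSAtl2.Pt 0, cSAtl1.Pt 0, cSAtl0.Pt 0]) 0 && kChk cSAtr14k_P cSAtn13y37_P cSAtn14.Kn 2 H15.XCo1C.B [cSAtl6.Pt 0, cSAtl5.Pt 0, cSAtl4.Pt 0, cSAtl3.Pt 0, cSAtl2.Pt 0, cSAtl1.Pt 0, cSAtl0.Pt 0] && allL (ltAll 2) cSAtn14.pre && planOK cSAth_P (rl [nat_lit 10, nat_lit 34] F_P) 2 (cSAtl7.Pt 0) cSAtn14.plan [cSAtl7, cSAtl8, cSAtl9, cSAtl10, cSAtl11]) = true := by decide +kernel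
theorem cSAtn14_1_0 : allZ (cSAtn14.ent F_P cSAth_P (rl [nat_lit 10, nat_lit 34] F_P) cSAtn13y37_P cSAtr14k_P (nat_lit 40) (nat_lit 2) H15.XCo1C.B cSAtl7 [cSAtl8, cSAtl9, cSAtl10, cSAtl11] (fun _ => nat_lit 1)) (nat_lit 0) (nat_lit 32) = true := by decide +kernel
theorem cSAtn13y46_lt : allL (ltAll 40) cSAtn13y46_W = true := by decide +kernel
theorem cSAtr15k_lt : allL (ltAll 40) cSAtr15k_W = true := by decide +kernel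
theorem cSAtn15_0 : (Nat.ble cSAtl7.K 50 && Nat.beq (ltAll 4560 [cSAtl6.Pt 0, cSAtl5.Pt 0, cSAtl4.Pt 0, cSAtl3.Pt 0, cSAtl2.Pt 0, cSAtl1.Pt 0, cSAtl0.Pt 0]) 0 && kChk cSAtr15k_P cSAtn13y46_P cSAtn15.Kn 2 H15.XCo1C.B [cSAtl6.Pt 0, cSAtl5.Pt 0, cSAtl4.Pt 0, cSAtl3.Pt 0, cSAtl2.Pt 0, cSAtl1.Pt 0, cSAtl0.Pt 0] && allL (ltAll 2) cSAtn15.pre && planOK cSAth_P (rl [nat_lit 10, nat_lit 34] F_P) 2 (cSAtl7.Pt 0) cSAtn15.plan [cSAtl7, cSAtl8, cSAtl9, cSAtl10, cSAtl11]) = true := by decide +kernel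
theorem cSAtn15_1_0 : allZ (cSAtn15.ent F_P cSAth_P (rl [nat_lit 10, nat_lit 34] F_P) cSAtn13y46_P cSAtr15k_P (nat_lit 40) (nat_lit 2) H15.XCo1C.B cSAtl7 [cSAtl8, cSAtl9, cSAtl10, cSAtl11] (fun _ => nat_lit 1)) (nat_lit 0) (nat_lit 32) = true := by decide +kernel
theorem cSAtn13y2078_lt : allL (ltAll 40) cSAtn13y2078_W = true := by decide +kernel
theorem cSAtr16k_lt : allL (ltAll 40) cSAtr16k_W = true := by decide +kernel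
theorem cSAtn16_0 : (Nat.ble cSAtl7.K 50 && Nat.beq (ltAll 4560 [cSAtl6.Pt 0, cSAtl5.Pt 0, cSAtl4.Pt 0, cSAtl3.Pt 0, cSAtl2.Pt 0, cSAtl1.Pt 0, cSAtl0.Pt 0]) 0 && kChk cSAtr16k_P cSAtn13y2078_P cSAtn16.Kn 2 H15.XCo1C.B [cSAtl6.Pt 0, cSAtl5.Pt 0, cSAtl4.Pt 0, cSAtl3.Pt 0, cSAtl2.Pt 0, cSAtl1.Pt 0, cSAtl0.Pt 0] && allL (ltAll 2) cSAtn16.pre && planOK cSAth_P (rl [nat_lit 10, nat_lit 34] F_P) 2 (cSAtl7.Pt 0) cSAtn16.plan [cSAtl7, cSAtl8, cSAtl9, cSAtl10, cSAtl11]) = true := by decide +kernel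
theorem cSAtn16_1_0 : allZ (cSAtn16.ent F_P cSAth_P (rl [nat_lit 10, nat_lit 34] F_P) cSAtn13y2078_P cSAtr16k_P (nat_lit 40) (nat_lit 2) H15.XCo1C.B cSAtl7 [cSAtl8, cSAtl9, cSAtl10, cSAtl11] (fun _ => nat_lit 1)) (nat_lit 0) (nat_lit 32) = true := by decide +kernel
theorem cSAtn13_0 : (Nat.ble cSAtl4.K 50 && Nat.beq (ltAll 4560 [cSAtl3.Pt 0, cSAtl2.Pt 0, cSAtl1.Pt 0, cSAtl0.Pt 0]) 0 && kChk cSAtr13k_P cSAtn12y1086_P cSAtn13.Kn 2 H15.XCo1C.B [cSAtl3.Pt 0, cSAtl2.Pt 0, cSAtl1.Pt 0, cSAtl0.Pt 0] && allL (ltAll 2) cSAtn13.pre && planOK cSAth_P (rl [nat_lit 10, nat_lit 34] F_P) 2 (cSAtl4.Pt 0) cSAtn13.plan [cSAtl4, cSAtl5, cSAtl6, cSAtl7, cSAtl8, cSAtl9, cSAtl10, cSAtl11]) = true := by decide +kernel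
theorem cSAtn13_1_0 : allZ (cSAtn13.ent F_P cSAth_P (rl [nat_lit 10, nat_lit 34] F_P) cSAtn12y1086_P cSAtr13k_P (nat_lit 40) (nat_lit 2) H15.XCo1C.B cSAtl4 [cSAtl5, cSAtl6, cSAtl7, cSAtl8, cSAtl9, cSAtl10, cSAtl11] (fun _ => nat_lit 1)) (nat_lit 0) (nat_lit 8) = true := by decide +kernel
theorem cSAtn12_0 : (Nat.ble cSAtl2.K 50 && Nat.beq (ltAll 4560 [cSAtl1.Pt 0, cSAtl0.Pt 0]) 0 && kChk cSAe_P (rl [nat_lit 10, nat_lit 34] F_P) cSAtn12.Kn 2 H15.XCo1C.B [cSAtl1.Pt 0, cSAtl0.Pt 0] && allL (ltAll 2) cSAtn12.pre && planOK cSAth_P (rl [nat_lit 10, nat_lit 34] F_P) 2 (cSAtl2.Pt 0) cSAtn12.plan [cSAtl2, cSAtl3, cSAtl4, cSAtl5, cSAtl6, cSAtl7, cSAtl8, cSAtl9, cSAtl10, cSAtl11]) = true := by decide +kernel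
theorem cSAtn12_1_0 : allZ (cSAtn12.ent F_P cSAth_P (rl [nat_lit 10, nat_lit 34] F_P) (rl [nat_lit 10, nat_lit 34] F_P) cSAe_P (nat_lit 40) (nat_lit 2) H15.XCo1C.B cSAtl2 [cSAtl3, cSAtl4, cSAtl5, cSAtl6, cSAtl7, cSAtl8, cSAtl9, cSAtl10, cSAtl11] (memO cSAc2)) (nat_lit 0) (nat_lit 27) = true := by decide +kernel
theorem cSA_f2 : (Nat.ble cSAc2.K 9 && Nat.ble (topK [cSAc7, cSAc10, cSAc11]) cSAc2.K && Nat.beq (cSAc2.Pt 0) (cSAtl2.Pt 0) && Nat.beq (ltAll 4560 [cSAtl1.Pt 0, cSAtl0.Pt 0]) 0 && kChk cSAe_P (rl [nat_lit 10, nat_lit 34] F_P) cSAc2.K 2 H15.XCo1C.B [cSAtl1.Pt 0, cSAtl0.Pt 0]) = true := by decide +kernel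
theorem cSAc1_e_0 : allZ (dent cSAc1 cSAe_P (nat_lit 4560)) (nat_lit 0) (nat_lit 1) = true := by decide +kernel
theorem cSAc1_h : 0 < cSAc1.n ∧ 0 < cSAc1.K ∧ cSAc1.Pt 0 < 4560 ∧ cSAc1.Q (cSAc1.Pt 0) = 0 := by decide +kernel
theorem cSAtn17_0 : (Nat.ble cSAtl1.K 50 && Nat.beq (ltAll 4560 [cSAtl0.Pt 0]) 0 && kChk cSAe_P (rl [nat_lit 10, nat_lit 34] F_P) cSAtn17.Kn 2 H15.XCo1C.B [cSAtl0.Pt 0] && allL (ltAll 2) cSAtn17.pre && planOK cSAth_P (rl [nat_lit 10, nat_lit 34] F_P) 2 (cSAtl1.Pt 0) cSAtn17.plan [cSAtl1, cSAtl2, cSAtl3, cSAtl4, cSAtl5, cSAtl6, cSAtl7, cSAtl8, cSAtl9, cSAtl10, cSAtl11]) = true := by decide +kernel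
theorem cSAtn17_1_0 : allZ (cSAtn17.ent F_P cSAth_P (rl [nat_lit 10, nat_lit 34] F_P) (rl [nat_lit 10, nat_lit 34] F_P) cSAe_P (nat_lit 40) (nat_lit 2) H15.XCo1C.B cSAtl1 [cSAtl2, cSAtl3, cSAtl4, cSAtl5, cSAtl6, cSAtl7, cSAtl8, cSAtl9, cSAtl10, cSAtl11] (memO cSAc1)) (nat_lit 0) (nat_lit 56) = true := by decide +kernel
theorem cSA_f1 : (Nat.ble cSAc1.K 9 && Nat.ble (topK [cSAc2, cSAc7, cSAc10, cSAc11]) cSAc1.K && Nat.beq (cSAc1.Pt 0) (cSAtl1.Pt 0) && Nat.beq (ltAll 4560 [cSAtl0.Pt 0]) 0 && kChk cSAe_P (rl [nat_lit 10, nat_lit 34] F_P) cSAc1.K 2 H15.XCo1C.B [cSAtl0.Pt 0]) = true := by decide +kernel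
theorem cSAc0_e_0 : allZ (dent cSAc0 cSAe_P (nat_lit 4560)) (nat_lit 0) (nat_lit 11) = true := by decide +kernel
theorem cSAc0_h : 0 < cSAc0.n ∧ 0 < cSAc0.K ∧ cSAc0.Pt 0 < 4560 ∧ cSAc0.Q (cSAc0.Pt 0) = 0 := by decide +kernel
theorem cSAtn18_0 : (Nat.ble cSAtl0.K 50 && Nat.beq (ltAll 4560 []) 0 && kChk cSAe_P (rl [nat_lit 10, nat_lit 34] F_P) cSAtn18.Kn 2 H15.XCo1C.B [] && allL (ltAll 2) cSAtn18.pre && planOK cSAth_P (rl [nat_lit 10, nat_lit 34] F_P) 2 (cSAtl0.Pt 0) cSAtn18.plan [cSAtl0, cSAtl1, cSAtl2, cSAtl3, cSAtl4, cSAtl5, cSAtl6, cSAtl7, cSAtl8, cSAtl9, cSAtl10, cSAtl11]) = true := by decide +kernel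
theorem cSAtn18_1_0 : allZ (cSAtn18.ent F_P cSAth_P (rl [nat_lit 10, nat_lit 34] F_P) (rl [nat_lit 10, nat_lit 34] F_P) cSAe_P (nat_lit 40) (nat_lit 2) H15.XCo1C.B cSAtl0 [cSAtl1, cSAtl2, cSAtl3, cSAtl4, cSAtl5, cSAtl6, cSAtl7, cSAtl8, cSAtl9, cSAtl10, cSAtl11] (memO cSAc0)) (nat_lit 0) (nat_lit 240) = true := by decide +kernel
theorem cSA_f0 : (Nat.ble cSAc0.K 9 && Nat.ble (topK [cSAc1, cSAc2, cSAc7, cSAc10, cSAc11]) cSAc0.K && Nat.beq (cSAc0.Pt 0) (cSAtl0.Pt 0) && Nat.beq (ltAll 4560 []) 0 && kChk cSAe_P (rl [nat_lit 10, nat_lit 34] F_P) cSAc0.K 2 H15.XCo1C.B []) = true := by decide +kernel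
theorem cSA_c : chainCard [cSAc0, cSAc1, cSAc2, cSAc7, cSAc10, cSAc11] = 2304 ∧ topK [cSAc0, cSAc1, cSAc2, cSAc7, cSAc10, cSAc11] = 9 := by decide +kernel
theorem pc3_p : allZ2 (pcEnt (rl [nat_lit 22, nat_lit 34] F_P) (nat_lit 3) H15.XCo1C.B pc3C) 2 2 = true := by decide +kernel
theorem pc3_e : allL (ltAll 2) pc3e = true := by decide +kernel
theorem pc3l0_e_0 : allZ (dent pc3l0 (wdsP (rl [nat_lit 22, nat_lit 34] F_P) pc3e) (nat_lit 4560)) (nat_lit 0) (nat_lit 8) = true := by decide +kernel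
theorem pc3l0_h : 0 < pc3l0.n ∧ 0 < pc3l0.K ∧ pc3l0.Pt 0 < 4560 ∧ pc3l0.Q (pc3l0.Pt 0) = 0 := by decide +kernel
theorem pc3_f0 : (Nat.ble pc3l0.K 3 && Nat.ble (topK []) pc3l0.K && fixLetters (wdsP (rl [nat_lit 22, nat_lit 34] F_P) pc3e) (topK []) (pc3l0.Pt 0)) = true := by decide +kernel
theorem pc3_c : chainCard [pc3l0] = 3 ^ 2 := by decide +kernel
theorem P3c_k : allZ2 (fun a j => force a fun a => force j fun j => cjL (rl [nat_lit 10, nat_lit 34] F_P) (rl [nat_lit 22, nat_lit 34] F_P) 2 H15.XCo1C.B a [j] [j]) 2 2 = true := by decide +kernel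
theorem P3n_k : allZ2 (fun a j => force a fun a => cjL (rl [nat_lit 22, nat_lit 34] F_P) cSAe_P 2 H15.XCo1C.B a [j] (nth [] (nth [] [[[nat_lit 0],
  [nat_lit 1]], [[nat_lit 0],
  [nat_lit 1]], [[nat_lit 0],
  [nat_lit 1]], [[nat_lit 0],
  [nat_lit 1]], [[nat_lit 0],
  [nat_lit 1]], [[nat_lit 0, nat_lit 0, nat_lit 1, nat_lit 1],
  [nat_lit 1]], [[nat_lit 0],
  [nat_lit 1]], [[nat_lit 0],
  [nat_lit 1]], [[nat_lit 0],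
  [nat_lit 1]]] a) j)) 9 2 = true := by decide +kernel
theorem c5th_lt : allL (ltAll 40) c5th_W = true := by decide +kernel
theorem c5tl0_e_0 : allZ (dent c5tl0 c5th_P (nat_lit 4560)) (nat_lit 0) (nat_lit 239) = true := by decide +kernel
theorem c5tl0_h : 0 < c5tl0.n ∧ 0 < c5tl0.K ∧ c5tl0.Pt 0 < 4560 ∧ c5tl0.Q (c5tl0.Pt 0) = 0 := by decide +kernel
theorem c5tl1_e_0 : allZ (dent c5tl1 c5th_P (nat_lit 4560)) (nat_lit 0) (nat_lit 55) = true := by decide +kernel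
theorem c5tl1_h : 0 < c5tl1.n ∧ 0 < c5tl1.K ∧ c5tl1.Pt 0 < 4560 ∧ c5tl1.Q (c5tl1.Pt 0) = 0 := by decide +kernel
theorem c5tl2_e_0 : allZ (dent c5tl2 c5th_P (nat_lit 4560)) (nat_lit 0) (nat_lit 26) = true := by decide +kernel
theorem c5tl2_h : 0 < c5tl2.n ∧ 0 < c5tl2.K ∧ c5tl2.Pt 0 < 4560 ∧ c5tl2.Q (c5tl2.Pt 0) = 0 := by decide +kernel
theorem c5tl3_e_0 : allZ (dent c5tl3 c5th_P (nat_lit 4560)) (nat_lit 0) (nat_lit 9) = true := by decide +kernel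
theorem c5tl3_h : 0 < c5tl3.n ∧ 0 < c5tl3.K ∧ c5tl3.Pt 0 < 4560 ∧ c5tl3.Q (c5tl3.Pt 0) = 0 := by decide +kernel
theorem c5tl4_e_0 : allZ (dent c5tl4 c5th_P (nat_lit 4560)) (nat_lit 0) (nat_lit 7) = true := by decide +kernel
theorem c5tl4_h : 0 < c5tl4.n ∧ 0 < c5tl4.K ∧ c5tl4.Pt 0 < 4560 ∧ c5tl4.Q (c5tl4.Pt 0) = 0 := by decide +kernel
theorem c5tl5_e_0 : allZ (dent c5tl5 c5th_P (nat_lit 4560)) (nat_lit 0) (nat_lit 3) = true := by decide +kernel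
theorem c5tl5_h : 0 < c5tl5.n ∧ 0 < c5tl5.K ∧ c5tl5.Pt 0 < 4560 ∧ c5tl5.Q (c5tl5.Pt 0) = 0 := by decide +kernel
theorem c5tl6_e_0 : allZ (dent c5tl6 c5th_P (nat_lit 4560)) (nat_lit 0) (nat_lit 2) = true := by decide +kernel
theorem c5tl6_h : 0 < c5tl6.n ∧ 0 < c5tl6.K ∧ c5tl6.Pt 0 < 4560 ∧ c5tl6.Q (c5tl6.Pt 0) = 0 := by decide +kernel
theorem c5tl7_e_0 : allZ (dent c5tl7 c5th_P (nat_lit 4560)) (nat_lit 0) (nat_lit 31) = true := by decide +kernel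
theorem c5tl7_h : 0 < c5tl7.n ∧ 0 < c5tl7.K ∧ c5tl7.Pt 0 < 4560 ∧ c5tl7.Q (c5tl7.Pt 0) = 0 := by decide +kernel
theorem c5tl8_e_0 : allZ (dent c5tl8 c5th_P (nat_lit 4560)) (nat_lit 0) (nat_lit 1) = true := by decide +kernel
theorem c5tl8_h : 0 < c5tl8.n ∧ 0 < c5tl8.K ∧ c5tl8.Pt 0 < 4560 ∧ c5tl8.Q (c5tl8.Pt 0) = 0 := by decide +kernel
theorem c5tl9_e_0 : allZ (dent c5tl9 c5th_P (nat_lit 4560)) (nat_lit 0) (nat_lit 3) = true := by decide +kernel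
theorem c5tl9_h : 0 < c5tl9.n ∧ 0 < c5tl9.K ∧ c5tl9.Pt 0 < 4560 ∧ c5tl9.Q (c5tl9.Pt 0) = 0 := by decide +kernel
theorem c5tl10_e_0 : allZ (dent c5tl10 c5th_P (nat_lit 4560)) (nat_lit 0) (nat_lit 1) = true := by decide +kernel
theorem c5tl10_h : 0 < c5tl10.n ∧ 0 < c5tl10.K ∧ c5tl10.Pt 0 < 4560 ∧ c5tl10.Q (c5tl10.Pt 0) = 0 := by decide +kernel
theorem c5t_f10 : (Nat.ble c5tl10.K 49 && Nat.ble (topK []) c5tl10.K && fixLetters c5th_P (topK []) (c5tl10.Pt 0)) = true := by decide +kernel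
theorem c5t_f9 : (Nat.ble c5tl9.K 49 && Nat.ble (topK [c5tl10]) c5tl9.K && fixLetters c5th_P (topK [c5tl10]) (c5tl9.Pt 0)) = true := by decide +kernel
theorem c5t_f8 : (Nat.ble c5tl8.K 49 && Nat.ble (topK [c5tl9, c5tl10]) c5tl8.K && fixLetters c5th_P (topK [c5tl9, c5tl10]) (c5tl8.Pt 0)) = true := by decide +kernel
theorem c5t_f7 : (Nat.ble c5tl7.K 49 && Nat.ble (topK [c5tl8, c5tl9, c5tl10]) c5tl7.K && fixLetters c5th_P (topK [c5tl8, c5tl9, c5tl10]) (c5tl7.Pt 0)) = true := by decide +kernel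
theorem c5t_f6 : (Nat.ble c5tl6.K 49 && Nat.ble (topK [c5tl7, c5tl8, c5tl9, c5tl10]) c5tl6.K && fixLetters c5th_P (topK [c5tl7, c5tl8, c5tl9, c5tl10]) (c5tl6.Pt 0)) = true := by decide +kernel
theorem c5t_f5 : (Nat.ble c5tl5.K 49 && Nat.ble (topK [c5tl6, c5tl7, c5tl8, c5tl9, c5tl10]) c5tl5.K && fixLetters c5th_P (topK [c5tl6, c5tl7, c5tl8, c5tl9, c5tl10]) (c5tl5.Pt 0)) = true := by decide +kernel
theorem c5t_f4 : (Nat.ble c5tl4.K 49 && Nat.ble (topK [c5tl5, c5tl6, c5tl7, c5tl8, c5tl9, c5tl10]) c5tl4.K && fixLetters c5th_P (topK [c5tl5, c5tl6, c5tl7, c5tl8, c5tl9, c5tl10]) (c5tl4.Pt 0)) = true := by decide +kernel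
theorem c5t_f3 : (Nat.ble c5tl3.K 49 && Nat.ble (topK [c5tl4, c5tl5, c5tl6, c5tl7, c5tl8, c5tl9, c5tl10]) c5tl3.K && fixLetters c5th_P (topK [c5tl4, c5tl5, c5tl6, c5tl7, c5tl8, c5tl9, c5tl10]) (c5tl3.Pt 0)) = true := by decide +kernel
theorem c5t_f2 : (Nat.ble c5tl2.K 49 && Nat.ble (topK [c5tl3, c5tl4, c5tl5, c5tl6, c5tl7, c5tl8, c5tl9, c5tl10]) c5tl2.K && fixLetters c5th_P (topK [c5tl3, c5tl4, c5tl5, c5tl6, c5tl7, c5tl8, c5tl9, c5tl10]) (c5tl2.Pt 0)) = true := by decide +kernel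
theorem c5t_f1 : (Nat.ble c5tl1.K 49 && Nat.ble (topK [c5tl2, c5tl3, c5tl4, c5tl5, c5tl6, c5tl7, c5tl8, c5tl9, c5tl10]) c5tl1.K && fixLetters c5th_P (topK [c5tl2, c5tl3, c5tl4, c5tl5, c5tl6, c5tl7, c5tl8, c5tl9, c5tl10]) (c5tl1.Pt 0)) = true := by decide +kernel
theorem c5t_f0 : (Nat.ble c5tl0.K 49 && Nat.ble (topK [c5tl1, c5tl2, c5tl3, c5tl4, c5tl5, c5tl6, c5tl7, c5tl8, c5tl9, c5tl10]) c5tl0.K && fixLetters c5th_P (topK [c5tl1, c5tl2, c5tl3, c5tl4, c5tl5, c5tl6, c5tl7, c5tl8, c5tl9, c5tl10]) (c5tl0.Pt 0)) = true := by decide +kernel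
theorem c5t_c : chainCard [c5tl0, c5tl1, c5tl2, c5tl3, c5tl4, c5tl5, c5tl6, c5tl7, c5tl8, c5tl9, c5tl10] = 178362777600 := by decide +kernel
theorem c5e_lt : allL (ltAll 40) c5e_W = true := by decide +kernel
theorem c5_f10 : (Nat.ble c5tl10.K 49 && Nat.blt (nat_lit 0) 4560 && fixLetters c5th_P c5tl10.K (nat_lit 0) && Nat.beq (ltAll 3 [nat_lit 2]) 0 && Nat.beq (apW (rl [nat_lit 10, nat_lit 22, nat_lit 38] F_P) [nat_lit 2] (nat_lit 0)) (c5tl10.Pt 0)) = true := by decide +kernel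
theorem c5_f9 : (Nat.ble c5tl9.K 49 && Nat.blt (nat_lit 0) 4560 && fixLetters c5th_P c5tl9.K (nat_lit 0) && Nat.beq (ltAll 3 [nat_lit 1]) 0 && Nat.beq (apW (rl [nat_lit 10, nat_lit 22, nat_lit 38] F_P) [nat_lit 1] (nat_lit 0)) (c5tl9.Pt 0)) = true := by decide +kernel
theorem c5_f8 : (Nat.ble c5tl8.K 49 && Nat.blt (nat_lit 0) 4560 && fixLetters c5th_P c5tl8.K (nat_lit 0) && Nat.beq (ltAll 3 [nat_lit 0]) 0 && Nat.beq (apW (rl [nat_lit 10, nat_lit 22, nat_lit 38] F_P) [nat_lit 0] (nat_lit 0)) (c5tl8.Pt 0)) = true := by decide +kernel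
theorem c5c7_e_0 : allZ (dent c5c7 c5e_P (nat_lit 4560)) (nat_lit 0) (nat_lit 15) = true := by decide +kernel
theorem c5c7_h : 0 < c5c7.n ∧ 0 < c5c7.K ∧ c5c7.Pt 0 < 4560 ∧ c5c7.Q (c5c7.Pt 0) = 0 := by decide +kernel
theorem c5tn0_0 : (Nat.ble c5tl7.K 49 && Nat.beq (ltAll 4560 [c5tl6.Pt 0, c5tl5.Pt 0, c5tl4.Pt 0, c5tl3.Pt 0, c5tl2.Pt 0, c5tl1.Pt 0, c5tl0.Pt 0]) 0 && kChk c5e_P (rl [nat_lit 10, nat_lit 22, nat_lit 38] F_P) c5tn0.Kn 3 H15.XCo1C.B [c5tl6.Pt 0, c5tl5.Pt 0, c5tl4.Pt 0, c5tl3.Pt 0, c5tl2.Pt 0, c5tl1.Pt 0, c5tl0.Pt 0] && allL (ltAll 3) c5tn0.pre && planOK c5th_P (rl [nat_lit 10, nat_lit 22, nat_lit 38] F_P) 3 (c5tl7.Pt 0) c5tn0.plan [c5tl7, c5tl8, c5tl9, c5tl10]) = true := by decide +kernel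
theorem c5tn0_1_0 : allZ (c5tn0.ent F_P c5th_P (rl [nat_lit 10, nat_lit 22, nat_lit 38] F_P) (rl [nat_lit 10, nat_lit 22, nat_lit 38] F_P) c5e_P (nat_lit 40) (nat_lit 3) H15.XCo1C.B c5tl7 [c5tl8, c5tl9, c5tl10] (memO c5c7)) (nat_lit 0) (nat_lit 32) = true := by decide +kernel
theorem c5_f7 : (Nat.ble c5c7.K 5 && Nat.ble (topK []) c5c7.K && Nat.beq (c5c7.Pt 0) (c5tl7.Pt 0) && Nat.beq (ltAll 4560 [c5tl6.Pt 0, c5tl5.Pt 0, c5tl4.Pt 0, c5tl3.Pt 0, c5tl2.Pt 0, c5tl1.Pt 0, c5tl0.Pt 0]) 0 && kChk c5e_P (rl [nat_lit 10, nat_lit 22, nat_lit 38] F_P) c5c7.K 3 H15.XCo1C.B [c5tl6.Pt 0, c5tl5.Pt 0, c5tl4.Pt 0, c5tl3.Pt 0, c5tl2.Pt 0, c5tl1.Pt 0, c5tl0.Pt 0]) = true := by decide +kernel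
theorem c5_f6 : (Nat.ble c5tl6.K 49 && Nat.blt (nat_lit 36) 4560 && fixLetters c5th_P c5tl6.K (nat_lit 36) && Nat.beq (ltAll 3 [nat_lit 2, nat_lit 1, nat_lit 2]) 0 && Nat.beq (apW (rl [nat_lit 10, nat_lit 22, nat_lit 38] F_P) [nat_lit 2, nat_lit 1, nat_lit 2] (nat_lit 36)) (c5tl6.Pt 0)) = true := by decide +kernel
theorem c5_f5 : (Nat.ble c5tl5.K 49 && Nat.blt (nat_lit 36) 4560 && fixLetters c5th_P c5tl5.K (nat_lit 36) && Nat.beq (ltAll 3 [nat_lit 1, nat_lit 2, nat_lit 1]) 0 && Nat.beq (apW (rl [nat_lit 10, nat_lit 22, nat_lit 38] F_P) [nat_lit 1, nat_lit 2, nat_lit 1] (nat_lit 36)) (c5tl5.Pt 0)) = true := by decide +kernel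
theorem c5_f4 : (Nat.ble c5tl4.K 49 && Nat.blt (nat_lit 36) 4560 && fixLetters c5th_P c5tl4.K (nat_lit 36) && Nat.beq (ltAll 3 [nat_lit 2, nat_lit 1]) 0 && Nat.beq (apW (rl [nat_lit 10, nat_lit 22, nat_lit 38] F_P) [nat_lit 2, nat_lit 1] (nat_lit 36)) (c5tl4.Pt 0)) = true := by decide +kernel
theorem c5_f3 : (Nat.ble c5tl3.K 49 && Nat.blt (nat_lit 36) 4560 && fixLetters c5th_P c5tl3.K (nat_lit 36) && Nat.beq (ltAll 3 [nat_lit 1, nat_lit 2]) 0 && Nat.beq (apW (rl [nat_lit 10, nat_lit 22, nat_lit 38] F_P) [nat_lit 1, nat_lit 2] (nat_lit 36)) (c5tl3.Pt 0)) = true := by decide +kernel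
theorem c5_f2 : (Nat.ble c5tl2.K 49 && Nat.blt (nat_lit 36) 4560 && fixLetters c5th_P c5tl2.K (nat_lit 36) && Nat.beq (ltAll 3 [nat_lit 2]) 0 && Nat.beq (apW (rl [nat_lit 10, nat_lit 22, nat_lit 38] F_P) [nat_lit 2] (nat_lit 36)) (c5tl2.Pt 0)) = true := by decide +kernel
theorem c5_f1 : (Nat.ble c5tl1.K 49 && Nat.blt (nat_lit 36) 4560 && fixLetters c5th_P c5tl1.K (nat_lit 36) && Nat.beq (ltAll 3 [nat_lit 1]) 0 && Nat.beq (apW (rl [nat_lit 10, nat_lit 22, nat_lit 38] F_P) [nat_lit 1] (nat_lit 36)) (c5tl1.Pt 0)) = true := by decide +kernel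
theorem c5c0_e_0 : allZ (dent c5c0 c5e_P (nat_lit 4560)) (nat_lit 0) (nat_lit 23) = true := by decide +kernel
theorem c5c0_h : 0 < c5c0.n ∧ 0 < c5c0.K ∧ c5c0.Pt 0 < 4560 ∧ c5c0.Q (c5c0.Pt 0) = 0 := by decide +kernel
theorem c5tn1y2117_lt : allL (ltAll 40) c5tn1y2117_W = true := by decide +kernel
theorem c5tr2k_lt : allL (ltAll 40) c5tr2k_W = true := by decide +kernel
theorem c5tn2_0 : (Nat.ble c5tl7.K 49 && Nat.beq (ltAll 4560 [c5tl6.Pt 0, c5tl5.Pt 0, c5tl4.Pt 0, c5tl3.Pt 0, c5tl2.Pt 0, c5tl1.Pt 0, c5tl0.Pt 0]) 0 && kChk c5tr2k_P c5tn1y2117_P c5tn2.Kn 3 H15.XCo1C.B [c5tl6.Pt 0, c5tl5.Pt 0, c5tl4.Pt 0, c5tl3.Pt 0, c5tl2.Pt 0, c5tl1.Pt 0, c5tl0.Pt 0] && allL (ltAll 3) c5tn2.pre && planOK c5th_P (rl [nat_lit 10, nat_lit 22, nat_lit 38] F_P) 3 (c5tl7.Pt 0) c5tn2.plan [c5tl7, c5tl8, c5tl9, c5tl10]) = true := by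 decide +kernel
theorem c5tn2_1_0 : allZ (c5tn2.ent F_P c5th_P (rl [nat_lit 10, nat_lit 22, nat_lit 38] F_P) c5tn1y2117_P c5tr2k_P (nat_lit 40) (nat_lit 3) H15.XCo1C.B c5tl7 [c5tl8, c5tl9, c5tl10] (fun _ => nat_lit 1)) (nat_lit 0) (nat_lit 32) = true := by decide +kernel
theorem c5tn1y54_lt : allL (ltAll 40) c5tn1y54_W = true := by decide +kernel
theorem c5tr3k_lt : allL (ltAll 40) c5tr3k_W = true := by decide +kernel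
theorem c5tn3_0 : (Nat.ble c5tl7.K 49 && Nat.beq (ltAll 4560 [c5tl6.Pt 0, c5tl5.Pt 0, c5tl4.Pt 0, c5tl3.Pt 0, c5tl2.Pt 0, c5tl1.Pt 0, c5tl0.Pt 0]) 0 && kChk c5tr3k_P c5tn1y54_P c5tn3.Kn 3 H15.XCo1C.B [c5tl6.Pt 0, c5tl5.Pt 0, c5tl4.Pt 0, c5tl3.Pt 0, c5tl2.Pt 0, c5tl1.Pt 0, c5tl0.Pt 0] && allL (ltAll 3) c5tn3.pre && planOK c5th_P (rl [nat_lit 10, nat_lit 22, nat_lit 38] F_P) 3 (c5tl7.Pt 0) c5tn3.plan [c5tl7, c5tl8, c5tl9, c5tl10]) = true := by decide +kernel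
theorem c5tn3_1_0 : allZ (c5tn3.ent F_P c5th_P (rl [nat_lit 10, nat_lit 22, nat_lit 38] F_P) c5tn1y54_P c5tr3k_P (nat_lit 40) (nat_lit 3) H15.XCo1C.B c5tl7 [c5tl8, c5tl9, c5tl10] (fun _ => nat_lit 1)) (nat_lit 0) (nat_lit 32) = true := by decide +kernel
theorem c5tn1y4522_lt : allL (ltAll 40) c5tn1y4522_W = true := by decide +kernel
theorem c5tr4k_lt : allL (ltAll 40) c5tr4k_W = true := by decide +kernel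
theorem c5tn4_0 : (Nat.ble c5tl7.K 49 && Nat.beq (ltAll 4560 [c5tl6.Pt 0, c5tl5.Pt 0, c5tl4.Pt 0, c5tl3.Pt 0, c5tl2.Pt 0, c5tl1.Pt 0, c5tl0.Pt 0]) 0 && kChk c5tr4k_P c5tn1y4522_P c5tn4.Kn 3 H15.XCo1C.B [c5tl6.Pt 0, c5tl5.Pt 0, c5tl4.Pt 0, c5tl3.Pt 0, c5tl2.Pt 0, c5tl1.Pt 0, c5tl0.Pt 0] && allL (ltAll 3) c5tn4.pre && planOK c5th_P (rl [nat_lit 10, nat_lit 22, nat_lit 38] F_P) 3 (c5tl7.Pt 0) c5tn4.plan [c5tl7, c5tl8, c5tl9, c5tl10]) = true := by decide +kernel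
theorem c5tn4_1_0 : allZ (c5tn4.ent F_P c5th_P (rl [nat_lit 10, nat_lit 22, nat_lit 38] F_P) c5tn1y4522_P c5tr4k_P (nat_lit 40) (nat_lit 3) H15.XCo1C.B c5tl7 [c5tl8, c5tl9, c5tl10] (fun _ => nat_lit 1)) (nat_lit 0) (nat_lit 32) = true := by decide +kernel
theorem c5tn1y3747_lt : allL (ltAll 40) c5tn1y3747_W = true := by decide +kernel
theorem c5tr5k_lt : allL (ltAll 40) c5tr5k_W = true := by decide +kernel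
theorem c5tn5_0 : (Nat.ble c5tl7.K 49 && Nat.beq (ltAll 4560 [c5tl6.Pt 0, c5tl5.Pt 0, c5tl4.Pt 0, c5tl3.Pt 0, c5tl2.Pt 0, c5tl1.Pt 0, c5tl0.Pt 0]) 0 && kChk c5tr5k_P c5tn1y3747_P c5tn5.Kn 3 H15.XCo1C.B [c5tl6.Pt 0, c5tl5.Pt 0, c5tl4.Pt 0, c5tl3.Pt 0, c5tl2.Pt 0, c5tl1.Pt 0, c5tl0.Pt 0] && allL (ltAll 3) c5tn5.pre && planOK c5th_P (rl [nat_lit 10, nat_lit 22, nat_lit 38] F_P) 3 (c5tl7.Pt 0) c5tn5.plan [c5tl7, c5tl8, c5tl9, c5tl10]) = true := by decide +kernel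
theorem c5tn5_1_0 : allZ (c5tn5.ent F_P c5th_P (rl [nat_lit 10, nat_lit 22, nat_lit 38] F_P) c5tn1y3747_P c5tr5k_P (nat_lit 40) (nat_lit 3) H15.XCo1C.B c5tl7 [c5tl8, c5tl9, c5tl10] (fun _ => nat_lit 1)) (nat_lit 0) (nat_lit 32) = true := by decide +kernel
theorem c5tn1_0 : (Nat.ble c5tl0.K 49 && Nat.beq (ltAll 4560 []) 0 && kChk c5e_P (rl [nat_lit 10, nat_lit 22, nat_lit 38] F_P) c5tn1.Kn 3 H15.XCo1C.B [] && allL (ltAll 3) c5tn1.pre && planOK c5th_P (rl [nat_lit 10, nat_lit 22, nat_lit 38] F_P) 3 (c5tl0.Pt 0) c5tn1.plan [c5tl0, c5tl1, c5tl2, c5tl3, c5tl4, c5tl5, c5tl6, c5tl7, c5tl8, c5tl9, c5tl10]) = true := by decide +kernel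
theorem c5tn1_1_0 : allZ (c5tn1.ent F_P c5th_P (rl [nat_lit 10, nat_lit 22, nat_lit 38] F_P) (rl [nat_lit 10, nat_lit 22, nat_lit 38] F_P) c5e_P (nat_lit 40) (nat_lit 3) H15.XCo1C.B c5tl0 [c5tl1, c5tl2, c5tl3, c5tl4, c5tl5, c5tl6, c5tl7, c5tl8, c5tl9, c5tl10] (memO c5c0)) (nat_lit 0) (nat_lit 240) = true := by decide +kernel
theorem c5_f0 : (Nat.ble c5c0.K 5 && Nat.ble (topK [c5c7]) c5c0.K && Nat.beq (c5c0.Pt 0) (c5tl0.Pt 0) && Nat.beq (ltAll 4560 []) 0 && kChk c5e_P (rl [nat_lit 10, nat_lit 22, nat_lit 38] F_P) c5c0.K 3 H15.XCo1C.B []) = true := by decide +kernel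
theorem c5_c : chainCard [c5c0, c5c7] = 384 ∧ topK [c5c0, c5c7] = 5 := by decide +kernel
theorem c5_le_k : allZ (fun a => Nat.add (ltAll 4 (nth [] [[nat_lit 0],
  [nat_lit 0, nat_lit 0, nat_lit 1, nat_lit 1, nat_lit 3],
  [nat_lit 1, nat_lit 1, nat_lit 2, nat_lit 0, nat_lit 2, nat_lit 2, nat_lit 3],
  [nat_lit 0, nat_lit 1, nat_lit 1, nat_lit 2, nat_lit 0, nat_lit 3],
  [nat_lit 2, nat_lit 2, nat_lit 1]] a)) (sumL (fun β => Nat.xor (c5e_P a β) (apW (rl [nat_lit 32, nat_lit 33, nat_lit 24, nat_lit 14] F_P) (nth [] [[nat_lit 0],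
  [nat_lit 0, nat_lit 0, nat_lit 1, nat_lit 1, nat_lit 3],
  [nat_lit 1, nat_lit 1, nat_lit 2, nat_lit 0, nat_lit 2, nat_lit 2, nat_lit 3],
  [nat_lit 0, nat_lit 1, nat_lit 1, nat_lit 2, nat_lit 0, nat_lit 3],
  [nat_lit 2, nat_lit 2, nat_lit 1]] a) β)) H15.XCo1C.B)) 0 5 = true := by decide +kernel
theorem cSth_lt : allL (ltAll 40) cSth_W = true := by decide +kernel
theorem cStl0_e_0 : allZ (dent cStl0 cSth_P (nat_lit 4560)) (nat_lit 0) (nat_lit 4319) = true := by decide +kernel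
theorem cStl0_h : 0 < cStl0.n ∧ 0 < cStl0.K ∧ cStl0.Pt 0 < 4560 ∧ cStl0.Q (cStl0.Pt 0) = 0 := by decide +kernel
theorem cStl1_e_0 : allZ (dent cStl1 cSth_P (nat_lit 4560)) (nat_lit 0) (nat_lit 29) = true := by decide +kernel
theorem cStl1_h : 0 < cStl1.n ∧ 0 < cStl1.K ∧ cStl1.Pt 0 < 4560 ∧ cStl1.Q (cStl1.Pt 0) = 0 := by decide +kernel
theorem cStl2_e_0 : allZ (dent cStl2 cSth_P (nat_lit 4560)) (nat_lit 0) (nat_lit 27) = true := by decide +kernel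
theorem cStl2_h : 0 < cStl2.n ∧ 0 < cStl2.K ∧ cStl2.Pt 0 < 4560 ∧ cStl2.Q (cStl2.Pt 0) = 0 := by decide +kernel
theorem cStl3_e_0 : allZ (dent cStl3 cSth_P (nat_lit 4560)) (nat_lit 0) (nat_lit 1) = true := by decide +kernel
theorem cStl3_h : 0 < cStl3.n ∧ 0 < cStl3.K ∧ cStl3.Pt 0 < 4560 ∧ cStl3.Q (cStl3.Pt 0) = 0 := by decide +kernel
theorem cStl4_e_0 : allZ (dent cStl4 cSth_P (nat_lit 4560)) (nat_lit 0) (nat_lit 23) = true := by decide +kernel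
theorem cStl4_h : 0 < cStl4.n ∧ 0 < cStl4.K ∧ cStl4.Pt 0 < 4560 ∧ cStl4.Q (cStl4.Pt 0) = 0 := by decide +kernel
theorem cStl5_e_0 : allZ (dent cStl5 cSth_P (nat_lit 4560)) (nat_lit 0) (nat_lit 1) = true := by decide +kernel
theorem cStl5_h : 0 < cStl5.n ∧ 0 < cStl5.K ∧ cStl5.Pt 0 < 4560 ∧ cStl5.Q (cStl5.Pt 0) = 0 := by decide +kernel
theorem cStl6_e_0 : allZ (dent cStl6 cSth_P (nat_lit 4560)) (nat_lit 0) (nat_lit 1) = true := by decide +kernel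
theorem cStl6_h : 0 < cStl6.n ∧ 0 < cStl6.K ∧ cStl6.Pt 0 < 4560 ∧ cStl6.Q (cStl6.Pt 0) = 0 := by decide +kernel
theorem cStl7_e_0 : allZ (dent cStl7 cSth_P (nat_lit 4560)) (nat_lit 0) (nat_lit 15) = true := by decide +kernel
theorem cStl7_h : 0 < cStl7.n ∧ 0 < cStl7.K ∧ cStl7.Pt 0 < 4560 ∧ cStl7.Q (cStl7.Pt 0) = 0 := by decide +kernel
theorem cStl8_e_0 : allZ (dent cStl8 cSth_P (nat_lit 4560)) (nat_lit 0) (nat_lit 1) = true := by decide +kernel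
theorem cStl8_h : 0 < cStl8.n ∧ 0 < cStl8.K ∧ cStl8.Pt 0 < 4560 ∧ cStl8.Q (cStl8.Pt 0) = 0 := by decide +kernel
theorem cStl9_e_0 : allZ (dent cStl9 cSth_P (nat_lit 4560)) (nat_lit 0) (nat_lit 1) = true := by decide +kernel
theorem cStl9_h : 0 < cStl9.n ∧ 0 < cStl9.K ∧ cStl9.Pt 0 < 4560 ∧ cStl9.Q (cStl9.Pt 0) = 0 := by decide +kernel
theorem cStl10_e_0 : allZ (dent cStl10 cSth_P (nat_lit 4560)) (nat_lit 0) (nat_lit 1) = true := by decide +kernel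
theorem cStl10_h : 0 < cStl10.n ∧ 0 < cStl10.K ∧ cStl10.Pt 0 < 4560 ∧ cStl10.Q (cStl10.Pt 0) = 0 := by decide +kernel
theorem cStl11_e_0 : allZ (dent cStl11 cSth_P (nat_lit 4560)) (nat_lit 0) (nat_lit 1) = true := by decide +kernel
theorem cStl11_h : 0 < cStl11.n ∧ 0 < cStl11.K ∧ cStl11.Pt 0 < 4560 ∧ cStl11.Q (cStl11.Pt 0) = 0 := by decide +kernel
theorem cSt_f11 : (Nat.ble cStl11.K 52 && Nat.ble (topK []) cStl11.K && fixLetters cSth_P (topK []) (cStl11.Pt 0)) = true := by decide +kernel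
theorem cSt_f10 : (Nat.ble cStl10.K 52 && Nat.ble (topK [cStl11]) cStl10.K && fixLetters cSth_P (topK [cStl11]) (cStl10.Pt 0)) = true := by decide +kernel
theorem cSt_f9 : (Nat.ble cStl9.K 52 && Nat.ble (topK [cStl10, cStl11]) cStl9.K && fixLetters cSth_P (topK [cStl10, cStl11]) (cStl9.Pt 0)) = true := by decide +kernel
theorem cSt_f8 : (Nat.ble cStl8.K 52 && Nat.ble (topK [cStl9, cStl10, cStl11]) cStl8.K && fixLetters cSth_P (topK [cStl9, cStl10, cStl11]) (cStl8.Pt 0)) = true := by decide +kernel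
theorem cSt_f7 : (Nat.ble cStl7.K 52 && Nat.ble (topK [cStl8, cStl9, cStl10, cStl11]) cStl7.K && fixLetters cSth_P (topK [cStl8, cStl9, cStl10, cStl11]) (cStl7.Pt 0)) = true := by decide +kernel
theorem cSt_f6 : (Nat.ble cStl6.K 52 && Nat.ble (topK [cStl7, cStl8, cStl9, cStl10, cStl11]) cStl6.K && fixLetters cSth_P (topK [cStl7, cStl8, cStl9, cStl10, cStl11]) (cStl6.Pt 0)) = true := by decide +kernel
theorem cSt_f5 : (Nat.ble cStl5.K 52 && Nat.ble (topK [cStl6, cStl7, cStl8, cStl9, cStl10, cStl11]) cStl5.K && fixLetters cSth_P (topK [cStl6, cStl7, cStl8, cStl9, cStl10, cStl11]) (cStl5.Pt 0)) = true := by decide +kernel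
theorem cSt_f4 : (Nat.ble cStl4.K 52 && Nat.ble (topK [cStl5, cStl6, cStl7, cStl8, cStl9, cStl10, cStl11]) cStl4.K && fixLetters cSth_P (topK [cStl5, cStl6, cStl7, cStl8, cStl9, cStl10, cStl11]) (cStl4.Pt 0)) = true := by decide +kernel
theorem cSt_f3 : (Nat.ble cStl3.K 52 && Nat.ble (topK [cStl4, cStl5, cStl6, cStl7, cStl8, cStl9, cStl10, cStl11]) cStl3.K && fixLetters cSth_P (topK [cStl4, cStl5, cStl6, cStl7, cStl8, cStl9, cStl10, cStl11]) (cStl3.Pt 0)) = true := by decide +kernel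
theorem cSt_f2 : (Nat.ble cStl2.K 52 && Nat.ble (topK [cStl3, cStl4, cStl5, cStl6, cStl7, cStl8, cStl9, cStl10, cStl11]) cStl2.K && fixLetters cSth_P (topK [cStl3, cStl4, cStl5, cStl6, cStl7, cStl8, cStl9, cStl10, cStl11]) (cStl2.Pt 0)) = true := by decide +kernel
theorem cSt_f1 : (Nat.ble cStl1.K 52 && Nat.ble (topK [cStl2, cStl3, cStl4, cStl5, cStl6, cStl7, cStl8, cStl9, cStl10, cStl11]) cStl1.K && fixLetters cSth_P (topK [cStl2, cStl3, cStl4, cStl5, cStl6, cStl7, cStl8, cStl9, cStl10, cStl11]) (cStl1.Pt 0)) = true := by decide +kernel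
theorem cSt_f0 : (Nat.ble cStl0.K 52 && Nat.ble (topK [cStl1, cStl2, cStl3, cStl4, cStl5, cStl6, cStl7, cStl8, cStl9, cStl10, cStl11]) cStl0.K && fixLetters cSth_P (topK [cStl1, cStl2, cStl3, cStl4, cStl5, cStl6, cStl7, cStl8, cStl9, cStl10, cStl11]) (cStl0.Pt 0)) = true := by decide +kernel
theorem cSt_c : chainCard [cStl0, cStl1, cStl2, cStl3, cStl4, cStl5, cStl6, cStl7, cStl8, cStl9, cStl10, cStl11] = 178362777600 := by decide +kernel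
theorem cSe_lt : allL (ltAll 40) cSe_W = true := by decide +kernel
theorem cSc11_e_0 : allZ (dent cSc11 cSe_P (nat_lit 4560)) (nat_lit 0) (nat_lit 1) = true := by decide +kernel
theorem cSc11_h : 0 < cSc11.n ∧ 0 < cSc11.K ∧ cSc11.Pt 0 < 4560 ∧ cSc11.Q (cSc11.Pt 0) = 0 := by decide +kernel
theorem cStn0_0 : (Nat.ble cStl11.K 52 && Nat.beq (ltAll 4560 [cStl10.Pt 0, cStl9.Pt 0, cStl8.Pt 0, cStl7.Pt 0, cStl6.Pt 0, cStl5.Pt 0, cStl4.Pt 0, cStl3.Pt 0, cStl2.Pt 0, cStl1.Pt 0, cStl0.Pt 0]) 0 && kChk cSe_P (rl [nat_lit 10] F_P) cStn0.Kn 1 H15.XCo1C.B [cStl10.Pt 0, cStl9.Pt 0, cStl8.Pt 0, cStl7.Pt 0, cStl6.Pt 0, cStl5.Pt 0, cStl4.Pt 0, cStl3.Pt 0, cStl2.Pt 0, cStl1.Pt 0, cStl0.Pt 0] && allL (ltAll 1) cStn0.pre && planOK cSth_P (rl [nat_lit 10] F_P) 1 (cStl11.Pt 0) cStn0.plan [cStl11]) = true := by decide +kernel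
theorem cStn0_1_0 : allZ (cStn0.ent F_P cSth_P (rl [nat_lit 10] F_P) (rl [nat_lit 10] F_P) cSe_P (nat_lit 40) (nat_lit 1) H15.XCo1C.B cStl11 [] (memO cSc11)) (nat_lit 0) (nat_lit 2) = true := by decide +kernel
theorem cS_f11 : (Nat.ble cSc11.K 13 && Nat.ble (topK []) cSc11.K && Nat.beq (cSc11.Pt 0) (cStl11.Pt 0) && Nat.beq (ltAll 4560 [cStl10.Pt 0, cStl9.Pt 0, cStl8.Pt 0, cStl7.Pt 0, cStl6.Pt 0, cStl5.Pt 0, cStl4.Pt 0, cStl3.Pt 0, cStl2.Pt 0, cStl1.Pt 0, cStl0.Pt 0]) 0 && kChk cSe_P (rl [nat_lit 10] F_P) cSc11.K 1 H15.XCo1C.B [cStl10.Pt 0, cStl9.Pt 0, cStl8.Pt 0, cStl7.Pt 0, cStl6.Pt 0, cStl5.Pt 0, cStl4.Pt 0, cStl3.Pt 0, cStl2.Pt 0, cStl1.Pt 0, cStl0.Pt 0]) = true := by decide +kernel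
theorem cSc10_e_0 : allZ (dent cSc10 cSe_P (nat_lit 4560)) (nat_lit 0) (nat_lit 1) = true := by decide +kernel
theorem cSc10_h : 0 < cSc10.n ∧ 0 < cSc10.K ∧ cSc10.Pt 0 < 4560 ∧ cSc10.Q (cSc10.Pt 0) = 0 := by decide +kernel
theorem cStn1_0 : (Nat.ble cStl10.K 52 && Nat.beq (ltAll 4560 [cStl9.Pt 0, cStl8.Pt 0, cStl7.Pt 0, cStl6.Pt 0, cStl5.Pt 0, cStl4.Pt 0, cStl3.Pt 0, cStl2.Pt 0, cStl1.Pt 0, cStl0.Pt 0]) 0 && kChk cSe_P (rl [nat_lit 10] F_P) cStn1.Kn 1 H15.XCo1C.B [cStl9.Pt 0, cStl8.Pt 0, cStl7.Pt 0, cStl6.Pt 0, cStl5.Pt 0, cStl4.Pt 0, cStl3.Pt 0, cStl2.Pt 0, cStl1.Pt 0, cStl0.Pt 0] && allL (ltAll 1) cStn1.pre && planOK cSth_P (rl [nat_lit 10] F_P) 1 (cStl10.Pt 0) cStn1.plan [cStl10, cStl11]) = true := by decide +kernel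
theorem cStn1_1_0 : allZ (cStn1.ent F_P cSth_P (rl [nat_lit 10] F_P) (rl [nat_lit 10] F_P) cSe_P (nat_lit 40) (nat_lit 1) H15.XCo1C.B cStl10 [cStl11] (memO cSc10)) (nat_lit 0) (nat_lit 2) = true := by decide +kernel
theorem cS_f10 : (Nat.ble cSc10.K 13 && Nat.ble (topK [cSc11]) cSc10.K && Nat.beq (cSc10.Pt 0) (cStl10.Pt 0) && Nat.beq (ltAll 4560 [cStl9.Pt 0, cStl8.Pt 0, cStl7.Pt 0, cStl6.Pt 0, cStl5.Pt 0, cStl4.Pt 0, cStl3.Pt 0, cStl2.Pt 0, cStl1.Pt 0, cStl0.Pt 0]) 0 && kChk cSe_P (rl [nat_lit 10] F_P) cSc10.K 1 H15.XCo1C.B [cStl9.Pt 0, cStl8.Pt 0, cStl7.Pt 0, cStl6.Pt 0, cStl5.Pt 0, cStl4.Pt 0, cStl3.Pt 0, cStl2.Pt 0, cStl1.Pt 0, cStl0.Pt 0]) = true := by decide +kernel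
theorem cSc9_e_0 : allZ (dent cSc9 cSe_P (nat_lit 4560)) (nat_lit 0) (nat_lit 1) = true := by decide +kernel
theorem cSc9_h : 0 < cSc9.n ∧ 0 < cSc9.K ∧ cSc9.Pt 0 < 4560 ∧ cSc9.Q (cSc9.Pt 0) = 0 := by decide +kernel
theorem cStn2_0 : (Nat.ble cStl9.K 52 && Nat.beq (ltAll 4560 [cStl8.Pt 0, cStl7.Pt 0, cStl6.Pt 0, cStl5.Pt 0, cStl4.Pt 0, cStl3.Pt 0, cStl2.Pt 0, cStl1.Pt 0, cStl0.Pt 0]) 0 && kChk cSe_P (rl [nat_lit 10] F_P) cStn2.Kn 1 H15.XCo1C.B [cStl8.Pt 0, cStl7.Pt 0, cStl6.Pt 0, cStl5.Pt 0, cStl4.Pt 0, cStl3.Pt 0, cStl2.Pt 0, cStl1.Pt 0, cStl0.Pt 0] && allL (ltAll 1) cStn2.pre && planOK cSth_P (rl [nat_lit 10] F_P) 1 (cStl9.Pt 0) cStn2.plan [cStl9, cStl10, cStl11]) = true := by decide +kernel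
theorem cStn2_1_0 : allZ (cStn2.ent F_P cSth_P (rl [nat_lit 10] F_P) (rl [nat_lit 10] F_P) cSe_P (nat_lit 40) (nat_lit 1) H15.XCo1C.B cStl9 [cStl10, cStl11] (memO cSc9)) (nat_lit 0) (nat_lit 2) = true := by decide +kernel
theorem cS_f9 : (Nat.ble cSc9.K 13 && Nat.ble (topK [cSc10, cSc11]) cSc9.K && Nat.beq (cSc9.Pt 0) (cStl9.Pt 0) && Nat.beq (ltAll 4560 [cStl8.Pt 0, cStl7.Pt 0, cStl6.Pt 0, cStl5.Pt 0, cStl4.Pt 0, cStl3.Pt 0, cStl2.Pt 0, cStl1.Pt 0, cStl0.Pt 0]) 0 && kChk cSe_P (rl [nat_lit 10] F_P) cSc9.K 1 H15.XCo1C.B [cStl8.Pt 0, cStl7.Pt 0, cStl6.Pt 0, cStl5.Pt 0, cStl4.Pt 0, cStl3.Pt 0, cStl2.Pt 0, cStl1.Pt 0, cStl0.Pt 0]) = true := by decide +kernel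
theorem cSc8_e_0 : allZ (dent cSc8 cSe_P (nat_lit 4560)) (nat_lit 0) (nat_lit 1) = true := by decide +kernel
theorem cSc8_h : 0 < cSc8.n ∧ 0 < cSc8.K ∧ cSc8.Pt 0 < 4560 ∧ cSc8.Q (cSc8.Pt 0) = 0 := by decide +kernel
theorem cStn3_0 : (Nat.ble cStl8.K 52 && Nat.beq (ltAll 4560 [cStl7.Pt 0, cStl6.Pt 0, cStl5.Pt 0, cStl4.Pt 0, cStl3.Pt 0, cStl2.Pt 0, cStl1.Pt 0, cStl0.Pt 0]) 0 && kChk cSe_P (rl [nat_lit 10] F_P) cStn3.Kn 1 H15.XCo1C.B [cStl7.Pt 0, cStl6.Pt 0, cStl5.Pt 0, cStl4.Pt 0, cStl3.Pt 0, cStl2.Pt 0, cStl1.Pt 0, cStl0.Pt 0] && allL (ltAll 1) cStn3.pre && planOK cSth_P (rl [nat_lit 10] F_P) 1 (cStl8.Pt 0) cStn3.plan [cStl8, cStl9, cStl10, cStl11]) = true := by decide +kernel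
theorem cStn3_1_0 : allZ (cStn3.ent F_P cSth_P (rl [nat_lit 10] F_P) (rl [nat_lit 10] F_P) cSe_P (nat_lit 40) (nat_lit 1) H15.XCo1C.B cStl8 [cStl9, cStl10, cStl11] (memO cSc8)) (nat_lit 0) (nat_lit 2) = true := by decide +kernel
theorem cS_f8 : (Nat.ble cSc8.K 13 && Nat.ble (topK [cSc9, cSc10, cSc11]) cSc8.K && Nat.beq (cSc8.Pt 0) (cStl8.Pt 0) && Nat.beq (ltAll 4560 [cStl7.Pt 0, cStl6.Pt 0, cStl5.Pt 0, cStl4.Pt 0, cStl3.Pt 0, cStl2.Pt 0, cStl1.Pt 0, cStl0.Pt 0]) 0 && kChk cSe_P (rl [nat_lit 10] F_P) cSc8.K 1 H15.XCo1C.B [cStl7.Pt 0, cStl6.Pt 0, cStl5.Pt 0, cStl4.Pt 0, cStl3.Pt 0, cStl2.Pt 0, cStl1.Pt 0, cStl0.Pt 0]) = true := by decide +kernel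
theorem cSc7_e_0 : allZ (dent cSc7 cSe_P (nat_lit 4560)) (nat_lit 0) (nat_lit 7) = true := by decide +kernel
theorem cSc7_h : 0 < cSc7.n ∧ 0 < cSc7.K ∧ cSc7.Pt 0 < 4560 ∧ cSc7.Q (cSc7.Pt 0) = 0 := by decide +kernel
theorem cStn4_0 : (Nat.ble cStl7.K 52 && Nat.beq (ltAll 4560 [cStl6.Pt 0, cStl5.Pt 0, cStl4.Pt 0, cStl3.Pt 0, cStl2.Pt 0, cStl1.Pt 0, cStl0.Pt 0]) 0 && kChk cSe_P (rl [nat_lit 10] F_P) cStn4.Kn 1 H15.XCo1C.B [cStl6.Pt 0, cStl5.Pt 0, cStl4.Pt 0, cStl3.Pt 0, cStl2.Pt 0, cStl1.Pt 0, cStl0.Pt 0] && allL (ltAll 1) cStn4.pre && planOK cSth_P (rl [nat_lit 10] F_P) 1 (cStl7.Pt 0) cStn4.plan [cStl7, cStl8, cStl9, cStl10, cStl11]) = true := by decide +kernel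
theorem cStn4_1_0 : allZ (cStn4.ent F_P cSth_P (rl [nat_lit 10] F_P) (rl [nat_lit 10] F_P) cSe_P (nat_lit 40) (nat_lit 1) H15.XCo1C.B cStl7 [cStl8, cStl9, cStl10, cStl11] (memO cSc7)) (nat_lit 0) (nat_lit 16) = true := by decide +kernel
theorem cS_f7 : (Nat.ble cSc7.K 13 && Nat.ble (topK [cSc8, cSc9, cSc10, cSc11]) cSc7.K && Nat.beq (cSc7.Pt 0) (cStl7.Pt 0) && Nat.beq (ltAll 4560 [cStl6.Pt 0, cStl5.Pt 0, cStl4.Pt 0, cStl3.Pt 0, cStl2.Pt 0, cStl1.Pt 0, cStl0.Pt 0]) 0 && kChk cSe_P (rl [nat_lit 10] F_P) cSc7.K 1 H15.XCo1C.B [cStl6.Pt 0, cStl5.Pt 0, cStl4.Pt 0, cStl3.Pt 0, cStl2.Pt 0, cStl1.Pt 0, cStl0.Pt 0]) = true := by decide +kernel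
theorem cSc6_e_0 : allZ (dent cSc6 cSe_P (nat_lit 4560)) (nat_lit 0) (nat_lit 1) = true := by decide +kernel
theorem cSc6_h : 0 < cSc6.n ∧ 0 < cSc6.K ∧ cSc6.Pt 0 < 4560 ∧ cSc6.Q (cSc6.Pt 0) = 0 := by decide +kernel
theorem cStn5_0 : (Nat.ble cStl6.K 52 && Nat.beq (ltAll 4560 [cStl5.Pt 0, cStl4.Pt 0, cStl3.Pt 0, cStl2.Pt 0, cStl1.Pt 0, cStl0.Pt 0]) 0 && kChk cSe_P (rl [nat_lit 10] F_P) cStn5.Kn 1 H15.XCo1C.B [cStl5.Pt 0, cStl4.Pt 0, cStl3.Pt 0, cStl2.Pt 0, cStl1.Pt 0, cStl0.Pt 0] && allL (ltAll 1) cStn5.pre && planOK cSth_P (rl [nat_lit 10] F_P) 1 (cStl6.Pt 0) cStn5.plan [cStl6, cStl7, cStl8, cStl9, cStl10, cStl11]) = true := by decide +kernel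
theorem cStn5_1_0 : allZ (cStn5.ent F_P cSth_P (rl [nat_lit 10] F_P) (rl [nat_lit 10] F_P) cSe_P (nat_lit 40) (nat_lit 1) H15.XCo1C.B cStl6 [cStl7, cStl8, cStl9, cStl10, cStl11] (memO cSc6)) (nat_lit 0) (nat_lit 2) = true := by decide +kernel
theorem cS_f6 : (Nat.ble cSc6.K 13 && Nat.ble (topK [cSc7, cSc8, cSc9, cSc10, cSc11]) cSc6.K && Nat.beq (cSc6.Pt 0) (cStl6.Pt 0) && Nat.beq (ltAll 4560 [cStl5.Pt 0, cStl4.Pt 0, cStl3.Pt 0, cStl2.Pt 0, cStl1.Pt 0, cStl0.Pt 0]) 0 && kChk cSe_P (rl [nat_lit 10] F_P) cSc6.K 1 H15.XCo1C.B [cStl5.Pt 0, cStl4.Pt 0, cStl3.Pt 0, cStl2.Pt 0, cStl1.Pt 0, cStl0.Pt 0]) = true := by decide +kernel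
theorem cSc5_e_0 : allZ (dent cSc5 cSe_P (nat_lit 4560)) (nat_lit 0) (nat_lit 1) = true := by decide +kernel
theorem cSc5_h : 0 < cSc5.n ∧ 0 < cSc5.K ∧ cSc5.Pt 0 < 4560 ∧ cSc5.Q (cSc5.Pt 0) = 0 := by decide +kernel
theorem cStn6_0 : (Nat.ble cStl5.K 52 && Nat.beq (ltAll 4560 [cStl4.Pt 0, cStl3.Pt 0, cStl2.Pt 0, cStl1.Pt 0, cStl0.Pt 0]) 0 && kChk cSe_P (rl [nat_lit 10] F_P) cStn6.Kn 1 H15.XCo1C.B [cStl4.Pt 0, cStl3.Pt 0, cStl2.Pt 0, cStl1.Pt 0, cStl0.Pt 0] && allL (ltAll 1) cStn6.pre && planOK cSth_P (rl [nat_lit 10] F_P) 1 (cStl5.Pt 0) cStn6.plan [cStl5, cStl6, cStl7, cStl8, cStl9, cStl10, cStl11]) = true := by decide +kernel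
theorem cStn6_1_0 : allZ (cStn6.ent F_P cSth_P (rl [nat_lit 10] F_P) (rl [nat_lit 10] F_P) cSe_P (nat_lit 40) (nat_lit 1) H15.XCo1C.B cStl5 [cStl6, cStl7, cStl8, cStl9, cStl10, cStl11] (memO cSc5)) (nat_lit 0) (nat_lit 2) = true := by decide +kernel
theorem cS_f5 : (Nat.ble cSc5.K 13 && Nat.ble (topK [cSc6, cSc7, cSc8, cSc9, cSc10, cSc11]) cSc5.K && Nat.beq (cSc5.Pt 0) (cStl5.Pt 0) && Nat.beq (ltAll 4560 [cStl4.Pt 0, cStl3.Pt 0, cStl2.Pt 0, cStl1.Pt 0, cStl0.Pt 0]) 0 && kChk cSe_P (rl [nat_lit 10] F_P) cSc5.K 1 H15.XCo1C.B [cStl4.Pt 0, cStl3.Pt 0, cStl2.Pt 0, cStl1.Pt 0, cStl0.Pt 0]) = true := by decide +kernel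
theorem cSc4_e_0 : allZ (dent cSc4 cSe_P (nat_lit 4560)) (nat_lit 0) (nat_lit 11) = true := by decide +kernel
theorem cSc4_h : 0 < cSc4.n ∧ 0 < cSc4.K ∧ cSc4.Pt 0 < 4560 ∧ cSc4.Q (cSc4.Pt 0) = 0 := by decide +kernel
theorem cStn7_0 : (Nat.ble cStl4.K 52 && Nat.beq (ltAll 4560 [cStl3.Pt 0, cStl2.Pt 0, cStl1.Pt 0, cStl0.Pt 0]) 0 && kChk cSe_P (rl [nat_lit 10] F_P) cStn7.Kn 1 H15.XCo1C.B [cStl3.Pt 0, cStl2.Pt 0, cStl1.Pt 0, cStl0.Pt 0] && allL (ltAll 1) cStn7.pre && planOK cSth_P (rl [nat_lit 10] F_P) 1 (cStl4.Pt 0) cStn7.plan [cStl4, cStl5, cStl6, cStl7, cStl8, cStl9, cStl10, cStl11]) = true := by decide +kernel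
theorem cStn7_1_0 : allZ (cStn7.ent F_P cSth_P (rl [nat_lit 10] F_P) (rl [nat_lit 10] F_P) cSe_P (nat_lit 40) (nat_lit 1) H15.XCo1C.B cStl4 [cStl5, cStl6, cStl7, cStl8, cStl9, cStl10, cStl11] (memO cSc4)) (nat_lit 0) (nat_lit 24) = true := by decide +kernel
theorem cS_f4 : (Nat.ble cSc4.K 13 && Nat.ble (topK [cSc5, cSc6, cSc7, cSc8, cSc9, cSc10, cSc11]) cSc4.K && Nat.beq (cSc4.Pt 0) (cStl4.Pt 0) && Nat.beq (ltAll 4560 [cStl3.Pt 0, cStl2.Pt 0, cStl1.Pt 0, cStl0.Pt 0]) 0 && kChk cSe_P (rl [nat_lit 10] F_P) cSc4.K 1 H15.XCo1C.B [cStl3.Pt 0, cStl2.Pt 0, cStl1.Pt 0, cStl0.Pt 0]) = true := by decide +kernel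
theorem cSc3_e_0 : allZ (dent cSc3 cSe_P (nat_lit 4560)) (nat_lit 0) (nat_lit 1) = true := by decide +kernel
theorem cSc3_h : 0 < cSc3.n ∧ 0 < cSc3.K ∧ cSc3.Pt 0 < 4560 ∧ cSc3.Q (cSc3.Pt 0) = 0 := by decide +kernel
theorem cStn8_0 : (Nat.ble cStl3.K 52 && Nat.beq (ltAll 4560 [cStl2.Pt 0, cStl1.Pt 0, cStl0.Pt 0]) 0 && kChk cSe_P (rl [nat_lit 10] F_P) cStn8.Kn 1 H15.XCo1C.B [cStl2.Pt 0, cStl1.Pt 0, cStl0.Pt 0] && allL (ltAll 1) cStn8.pre && planOK cSth_P (rl [nat_lit 10] F_P) 1 (cStl3.Pt 0) cStn8.plan [cStl3, cStl4, cStl5, cStl6, cStl7, cStl8, cStl9, cStl10, cStl11]) = true := by decide +kernel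
theorem cStn8_1_0 : allZ (cStn8.ent F_P cSth_P (rl [nat_lit 10] F_P) (rl [nat_lit 10] F_P) cSe_P (nat_lit 40) (nat_lit 1) H15.XCo1C.B cStl3 [cStl4, cStl5, cStl6, cStl7, cStl8, cStl9, cStl10, cStl11] (memO cSc3)) (nat_lit 0) (nat_lit 2) = true := by decide +kernel
theorem cS_f3 : (Nat.ble cSc3.K 13 && Nat.ble (topK [cSc4, cSc5, cSc6, cSc7, cSc8, cSc9, cSc10, cSc11]) cSc3.K && Nat.beq (cSc3.Pt 0) (cStl3.Pt 0) && Nat.beq (ltAll 4560 [cStl2.Pt 0, cStl1.Pt 0, cStl0.Pt 0]) 0 && kChk cSe_P (rl [nat_lit 10] F_P) cSc3.K 1 H15.XCo1C.B [cStl2.Pt 0, cStl1.Pt 0, cStl0.Pt 0]) = true := by decide +kernel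
theorem cSc2_e_0 : allZ (dent cSc2 cSe_P (nat_lit 4560)) (nat_lit 0) (nat_lit 13) = true := by decide +kernel
theorem cSc2_h : 0 < cSc2.n ∧ 0 < cSc2.K ∧ cSc2.Pt 0 < 4560 ∧ cSc2.Q (cSc2.Pt 0) = 0 := by decide +kernel
theorem cStn9_0 : (Nat.ble cStl2.K 52 && Nat.beq (ltAll 4560 [cStl1.Pt 0, cStl0.Pt 0]) 0 && kChk cSe_P (rl [nat_lit 10] F_P) cStn9.Kn 1 H15.XCo1C.B [cStl1.Pt 0, cStl0.Pt 0] && allL (ltAll 1) cStn9.pre && planOK cSth_P (rl [nat_lit 10] F_P) 1 (cStl2.Pt 0) cStn9.plan [cStl2, cStl3, cStl4, cStl5, cStl6, cStl7, cStl8, cStl9, cStl10, cStl11]) = true := by decide +kernel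
theorem cStn9_1_0 : allZ (cStn9.ent F_P cSth_P (rl [nat_lit 10] F_P) (rl [nat_lit 10] F_P) cSe_P (nat_lit 40) (nat_lit 1) H15.XCo1C.B cStl2 [cStl3, cStl4, cStl5, cStl6, cStl7, cStl8, cStl9, cStl10, cStl11] (memO cSc2)) (nat_lit 0) (nat_lit 28) = true := by decide +kernel
theorem cS_f2 : (Nat.ble cSc2.K 13 && Nat.ble (topK [cSc3, cSc4, cSc5, cSc6, cSc7, cSc8, cSc9, cSc10, cSc11]) cSc2.K && Nat.beq (cSc2.Pt 0) (cStl2.Pt 0) && Nat.beq (ltAll 4560 [cStl1.Pt 0, cStl0.Pt 0]) 0 && kChk cSe_P (rl [nat_lit 10] F_P) cSc2.K 1 H15.XCo1C.B [cStl1.Pt 0, cStl0.Pt 0]) = true := by decide +kernel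
theorem cS_f1 : (Nat.ble cStl1.K 52 && Nat.blt (nat_lit 0) 4560 && fixLetters cSth_P cStl1.K (nat_lit 0) && Nat.beq (ltAll 1 [nat_lit 0]) 0 && Nat.beq (apW (rl [nat_lit 10] F_P) [nat_lit 0] (nat_lit 0)) (cStl1.Pt 0)) = true := by decide +kernel

end H0.Co
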