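import Cfsg.Agent.H0.Co.D.D0

/-! Generated by tools/h0/co1/genD.py. -/

set_option maxRecDepth 100000
set_option maxHeartbeats 0

namespace H0.Co
open H16 H0.TR H0.Am H0.Fi
open scoped commutatorElement

theorem cSc0_e_0 : allZ (dent cSc0 cSe_P (nat_lit 4560)) (nat_lit 0) (nat_lit 3839) = true := by decide +kernel
theorem cSc0_h : 0 < cSc0.n ∧ 0 < cSc0.K ∧ cSc0.Pt 0 < 4560 ∧ cSc0.Q (cSc0.Pt 0) = 0 := by decide +kernel
theorem cStn10_0 : (Nat.ble cStl0.K 52 && Nat.beq (ltAll 4560 []) 0 && kChk cSe_P (rl [nat_lit 10] F_P) cStn10.Kn 1 H15.XCo1C.B [] && allL (ltAll 1) cStn10.pre && planOK cSth_P (rl [nat_lit 10] F_P) 1 (cStl0.Pt 0) cStn10.plan [cStl0, cStl1, cStl2, cStl3, cStl4, cStl5, cStl6, cStl7, cStl8, cStl9, cStl10, cStl11]) = true := by decide +kernel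
theorem cStn10_1_0 : allZ (cStn10.ent F_P cSth_P (rl [nat_lit 10] F_P) (rl [nat_lit 10] F_P) cSe_P (nat_lit 40) (nat_lit 1) H15.XCo1C.B cStl0 [cStl1, cStl2, cStl3, cStl4, cStl5, cStl6, cStl7, cStl8, cStl9, cStl10, cStl11] (memO cSc0)) (nat_lit 0) (nat_lit 4320) = true := by decide +kernel
theorem cS_f0 : (Nat.ble cSc0.K 13 && Nat.ble (topK [cSc2, cSc3, cSc4, cSc5, cSc6, cSc7, cSc8, cSc9, cSc10, cSc11]) cSc0.K && Nat.beq (cSc0.Pt 0) (cStl0.Pt 0) && Nat.beq (ltAll 4560 []) 0 && kChk cSe_P (rl [nat_lit 10] F_P) cSc0.K 1 H15.XCo1C.B []) = true := by decide +kernel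
theorem cS_c : chainCard [cSc0, cSc2, cSc3, cSc4, cSc5, cSc6, cSc7, cSc8, cSc9, cSc10, cSc11] = 660602880 ∧ topK [cSc0, cSc2, cSc3, cSc4, cSc5, cSc6, cSc7, cSc8, cSc9, cSc10, cSc11] = 13 := by decide +kernel
theorem cS_le_k : allZ (fun a => Nat.add (ltAll 6 (nth [] [[nat_lit 3, nat_lit 3, nat_lit 5],
  [nat_lit 0, nat_lit 3, nat_lit 0, nat_lit 1, nat_lit 2, nat_lit 0, nat_lit 0, nat_lit 1, nat_lit 2, nat_lit 3, nat_lit 2, nat_lit 1, nat_lit 0, nat_lit 0, nat_lit 2, nat_lit 0],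
  [nat_lit 0, nat_lit 1, nat_lit 1, nat_lit 0, nat_lit 2, nat_lit 0, nat_lit 3, nat_lit 0, nat_lit 3, nat_lit 0, nat_lit 2, nat_lit 3, nat_lit 2, nat_lit 2, nat_lit 1],
  [nat_lit 3, nat_lit 0, nat_lit 3, nat_lit 0, nat_lit 4, nat_lit 0, nat_lit 4, nat_lit 0, nat_lit 3, nat_lit 0, nat_lit 4, nat_lit 0, nat_lit 3, nat_lit 0],
  [nat_lit 2, nat_lit 0, nat_lit 0, nat_lit 3, nat_lit 2, nat_lit 0, nat_lit 2, nat_lit 0, nat_lit 2, nat_lit 3, nat_lit 2, nat_lit 0, nat_lit 1, nat_lit 1],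
  [nat_lit 0, nat_lit 1, nat_lit 2, nat_lit 4, nat_lit 0, nat_lit 3, nat_lit 2, nat_lit 0, nat_lit 0, nat_lit 4, nat_lit 4, nat_lit 4, nat_lit 0, nat_lit 3, nat_lit 1, nat_lit 1, nat_lit 0],
  [nat_lit 2, nat_lit 3, nat_lit 0, nat_lit 4, nat_lit 0, nat_lit 2, nat_lit 0, nat_lit 3, nat_lit 0, nat_lit 2, nat_lit 5, nat_lit 4, nat_lit 3, nat_lit 2, nat_lit 3, nat_lit 1],
  [nat_lit 3, nat_lit 0, nat_lit 0, nat_lit 3, nat_lit 0, nat_lit 4, nat_lit 0, nat_lit 3, nat_lit 4, nat_lit 0, nat_lit 3, nat_lit 0, nat_lit 0, nat_lit 4],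
  [nat_lit 1, nat_lit 0, nat_lit 1, nat_lit 4, nat_lit 0, nat_lit 0, nat_lit 3, nat_lit 0, nat_lit 3, nat_lit 4, nat_lit 2, nat_lit 3, nat_lit 1, nat_lit 0, nat_lit 2, nat_lit 1, nat_lit 1],
  [nat_lit 4, nat_lit 0, nat_lit 1, nat_lit 0, nat_lit 2, nat_lit 4, nat_lit 0, nat_lit 0, nat_lit 1, nat_lit 3, nat_lit 5, nat_lit 1, nat_lit 0, nat_lit 2, nat_lit 0, nat_lit 0],
  [nat_lit 1, nat_lit 0, nat_lit 1, nat_lit 4, nat_lit 0, nat_lit 1, nat_lit 1, nat_lit 2, nat_lit 0, nat_lit 3, nat_lit 4, nat_lit 0, nat_lit 0, nat_lit 3, nat_lit 2],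
  [nat_lit 0, nat_lit 0, nat_lit 3, nat_lit 2, nat_lit 3, nat_lit 0, nat_lit 1, nat_lit 1, nat_lit 4, nat_lit 0, nat_lit 5, nat_lit 2, nat_lit 0, nat_lit 1, nat_lit 1],
  [nat_lit 1, nat_lit 3, nat_lit 4, nat_lit 0, nat_lit 0, nat_lit 0, nat_lit 1, nat_lit 4, nat_lit 0, nat_lit 3, nat_lit 2, nat_lit 3, nat_lit 1, nat_lit 0, nat_lit 2, nat_lit 2]] a)) (sumL (fun β => Nat.xor (cSe_P a β) (apW (rl [nat_lit 20, nat_lit 22, nat_lit 24, nat_lit 32, nat_lit 33, nat_lit 14] F_P) (nth [] [[nat_lit 3, nat_lit 3, nat_lit 5],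
  [nat_lit 0, nat_lit 3, nat_lit 0, nat_lit 1, nat_lit 2, nat_lit 0, nat_lit 0, nat_lit 1, nat_lit 2, nat_lit 3, nat_lit 2, nat_lit 1, nat_lit 0, nat_lit 0, nat_lit 2, nat_lit 0],
  [nat_lit 0, nat_lit 1, nat_lit 1, nat_lit 0, nat_lit 2, nat_lit 0, nat_lit 3, nat_lit 0, nat_lit 3, nat_lit 0, nat_lit 2, nat_lit 3, nat_lit 2, nat_lit 2, nat_lit 1],
  [nat_lit 3, nat_lit 0, nat_lit 3, nat_lit 0, nat_lit 4, nat_lit 0, nat_lit 4, nat_lit 0, nat_lit 3, nat_lit 0, nat_lit 4, nat_lit 0, nat_lit 3, nat_lit 0],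
  [nat_lit 2, nat_lit 0, nat_lit 0, nat_lit 3, nat_lit 2, nat_lit 0, nat_lit 2, nat_lit 0, nat_lit 2, nat_lit 3, nat_lit 2, nat_lit 0, nat_lit 1, nat_lit 1],
  [nat_lit 0, nat_lit 1, nat_lit 2, nat_lit 4, nat_lit 0, nat_lit 3, nat_lit 2, nat_lit 0, nat_lit 0, nat_lit 4, nat_lit 4, nat_lit 4, nat_lit 0, nat_lit 3, nat_lit 1, nat_lit 1, nat_lit 0],
  [nat_lit 2, nat_lit 3, nat_lit 0, nat_lit 4, nat_lit 0, nat_lit 2, nat_lit 0, nat_lit 3, nat_lit 0, nat_lit 2, nat_lit 5, nat_lit 4, nat_lit 3, nat_lit 2, nat_lit 3, nat_lit 1],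
  [nat_lit 3, nat_lit 0, nat_lit 0, nat_lit 3, nat_lit 0, nat_lit 4, nat_lit 0, nat_lit 3, nat_lit 4, nat_lit 0, nat_lit 3, nat_lit 0, nat_lit 0, nat_lit 4],
  [nat_lit 1, nat_lit 0, nat_lit 1, nat_lit 4, nat_lit 0, nat_lit 0, nat_lit 3, nat_lit 0, nat_lit 3, nat_lit 4, nat_lit 2, nat_lit 3, nat_lit 1, nat_lit 0, nat_lit 2, nat_lit 1, nat_lit 1],
  [nat_lit 4, nat_lit 0, nat_lit 1, nat_lit 0, nat_lit 2, nat_lit 4, nat_lit 0, nat_lit 0, nat_lit 1, nat_lit 3, nat_lit 5, nat_lit 1, nat_lit 0, nat_lit 2, nat_lit 0, nat_lit 0],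
  [nat_lit 1, nat_lit 0, nat_lit 1, nat_lit 4, nat_lit 0, nat_lit 1, nat_lit 1, nat_lit 2, nat_lit 0, nat_lit 3, nat_lit 4, nat_lit 0, nat_lit 0, nat_lit 3, nat_lit 2],
  [nat_lit 0, nat_lit 0, nat_lit 3, nat_lit 2, nat_lit 3, nat_lit 0, nat_lit 1, nat_lit 1, nat_lit 4, nat_lit 0, nat_lit 5, nat_lit 2, nat_lit 0, nat_lit 1, nat_lit 1],
  [nat_lit 1, nat_lit 3, nat_lit 4, nat_lit 0, nat_lit 0, nat_lit 0, nat_lit 1, nat_lit 4, nat_lit 0, nat_lit 3, nat_lit 2, nat_lit 3, nat_lit 1, nat_lit 0, nat_lit 2, nat_lit 2]] a) β)) H15.XCo1C.B)) 0 13 = true := by decide +kernel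
theorem cEth_lt : allL (ltAll 40) cEth_W = true := by decide +kernel
theorem cEtl0_e_0 : allZ (dent cEtl0 cEth_P (nat_lit 4560)) (nat_lit 0) (nat_lit 239) = true := by decide +kernel
theorem cEtl0_h : 0 < cEtl0.n ∧ 0 < cEtl0.K ∧ cEtl0.Pt 0 < 4560 ∧ cEtl0.Q (cEtl0.Pt 0) = 0 := by decide +kernel
theorem cEtl1_e_0 : allZ (dent cEtl1 cEth_P (nat_lit 4560)) (nat_lit 0) (nat_lit 55) = true := by decide +kernel
theorem cEtl1_h : 0 < cEtl1.n ∧ 0 < cEtl1.K ∧ cEtl1.Pt 0 < 4560 ∧ cEtl1.Q (cEtl1.Pt 0) = 0 := by decide +kernel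
theorem cEtl2_e_0 : allZ (dent cEtl2 cEth_P (nat_lit 4560)) (nat_lit 0) (nat_lit 26) = true := by decide +kernel
theorem cEtl2_h : 0 < cEtl2.n ∧ 0 < cEtl2.K ∧ cEtl2.Pt 0 < 4560 ∧ cEtl2.Q (cEtl2.Pt 0) = 0 := by decide +kernel
theorem cEtl3_e_0 : allZ (dent cEtl3 cEth_P (nat_lit 4560)) (nat_lit 0) (nat_lit 39) = true := by decide +kernel
theorem cEtl3_h : 0 < cEtl3.n ∧ 0 < cEtl3.K ∧ cEtl3.Pt 0 < 4560 ∧ cEtl3.Q (cEtl3.Pt 0) = 0 := by decide +kernel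
theorem cEtl4_e_0 : allZ (dent cEtl4 cEth_P (nat_lit 4560)) (nat_lit 0) (nat_lit 3) = true := by decide +kernel
theorem cEtl4_h : 0 < cEtl4.n ∧ 0 < cEtl4.K ∧ cEtl4.Pt 0 < 4560 ∧ cEtl4.Q (cEtl4.Pt 0) = 0 := by decide +kernel
theorem cEtl5_e_0 : allZ (dent cEtl5 cEth_P (nat_lit 4560)) (nat_lit 0) (nat_lit 2) = true := by decide +kernel
theorem cEtl5_h : 0 < cEtl5.n ∧ 0 < cEtl5.K ∧ cEtl5.Pt 0 < 4560 ∧ cEtl5.Q (cEtl5.Pt 0) = 0 := by decide +kernel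
theorem cEtl6_e_0 : allZ (dent cEtl6 cEth_P (nat_lit 4560)) (nat_lit 0) (nat_lit 1) = true := by decide +kernel
theorem cEtl6_h : 0 < cEtl6.n ∧ 0 < cEtl6.K ∧ cEtl6.Pt 0 < 4560 ∧ cEtl6.Q (cEtl6.Pt 0) = 0 := by decide +kernel
theorem cEtl7_e_0 : allZ (dent cEtl7 cEth_P (nat_lit 4560)) (nat_lit 0) (nat_lit 31) = true := by decide +kernel
theorem cEtl7_h : 0 < cEtl7.n ∧ 0 < cEtl7.K ∧ cEtl7.Pt 0 < 4560 ∧ cEtl7.Q (cEtl7.Pt 0) = 0 := by decide +kernel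
theorem cEtl8_e_0 : allZ (dent cEtl8 cEth_P (nat_lit 4560)) (nat_lit 0) (nat_lit 3) = true := by decide +kernel
theorem cEtl8_h : 0 < cEtl8.n ∧ 0 < cEtl8.K ∧ cEtl8.Pt 0 < 4560 ∧ cEtl8.Q (cEtl8.Pt 0) = 0 := by decide +kernel
theorem cEtl9_e_0 : allZ (dent cEtl9 cEth_P (nat_lit 4560)) (nat_lit 0) (nat_lit 1) = true := by decide +kernel
theorem cEtl9_h : 0 < cEtl9.n ∧ 0 < cEtl9.K ∧ cEtl9.Pt 0 < 4560 ∧ cEtl9.Q (cEtl9.Pt 0) = 0 := by decide +kernel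
theorem cEtl10_e_0 : allZ (dent cEtl10 cEth_P (nat_lit 4560)) (nat_lit 0) (nat_lit 1) = true := by decide +kernel
theorem cEtl10_h : 0 < cEtl10.n ∧ 0 < cEtl10.K ∧ cEtl10.Pt 0 < 4560 ∧ cEtl10.Q (cEtl10.Pt 0) = 0 := by decide +kernel
theorem cEt_f10 : (Nat.ble cEtl10.K 49 && Nat.ble (topK []) cEtl10.K && fixLetters cEth_P (topK []) (cEtl10.Pt 0)) = true := by decide +kernel
theorem cEt_f9 : (Nat.ble cEtl9.K 49 && Nat.ble (topK [cEtl10]) cEtl9.K && fixLetters cEth_P (topK [cEtl10]) (cEtl9.Pt 0)) = true := by decide +kernel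
theorem cEt_f8 : (Nat.ble cEtl8.K 49 && Nat.ble (topK [cEtl9, cEtl10]) cEtl8.K && fixLetters cEth_P (topK [cEtl9, cEtl10]) (cEtl8.Pt 0)) = true := by decide +kernel
theorem cEt_f7 : (Nat.ble cEtl7.K 49 && Nat.ble (topK [cEtl8, cEtl9, cEtl10]) cEtl7.K && fixLetters cEth_P (topK [cEtl8, cEtl9, cEtl10]) (cEtl7.Pt 0)) = true := by decide +kernel
theorem cEt_f6 : (Nat.ble cEtl6.K 49 && Nat.ble (topK [cEtl7, cEtl8, cEtl9, cEtl10]) cEtl6.K && fixLetters cEth_P (topK [cEtl7, cEtl8, cEtl9, cEtl10]) (cEtl6.Pt 0)) = true := by decide +kernel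
theorem cEt_f5 : (Nat.ble cEtl5.K 49 && Nat.ble (topK [cEtl6, cEtl7, cEtl8, cEtl9, cEtl10]) cEtl5.K && fixLetters cEth_P (topK [cEtl6, cEtl7, cEtl8, cEtl9, cEtl10]) (cEtl5.Pt 0)) = true := by decide +kernel
theorem cEt_f4 : (Nat.ble cEtl4.K 49 && Nat.ble (topK [cEtl5, cEtl6, cEtl7, cEtl8, cEtl9, cEtl10]) cEtl4.K && fixLetters cEth_P (topK [cEtl5, cEtl6, cEtl7, cEtl8, cEtl9, cEtl10]) (cEtl4.Pt 0)) = true := by decide +kernel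
theorem cEt_f3 : (Nat.ble cEtl3.K 49 && Nat.ble (topK [cEtl4, cEtl5, cEtl6, cEtl7, cEtl8, cEtl9, cEtl10]) cEtl3.K && fixLetters cEth_P (topK [cEtl4, cEtl5, cEtl6, cEtl7, cEtl8, cEtl9, cEtl10]) (cEtl3.Pt 0)) = true := by decide +kernel
theorem cEt_f2 : (Nat.ble cEtl2.K 49 && Nat.ble (topK [cEtl3, cEtl4, cEtl5, cEtl6, cEtl7, cEtl8, cEtl9, cEtl10]) cEtl2.K && fixLetters cEth_P (topK [cEtl3, cEtl4, cEtl5, cEtl6, cEtl7, cEtl8, cEtl9, cEtl10]) (cEtl2.Pt 0)) = true := by decide +kernel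
theorem cEt_f1 : (Nat.ble cEtl1.K 49 && Nat.ble (topK [cEtl2, cEtl3, cEtl4, cEtl5, cEtl6, cEtl7, cEtl8, cEtl9, cEtl10]) cEtl1.K && fixLetters cEth_P (topK [cEtl2, cEtl3, cEtl4, cEtl5, cEtl6, cEtl7, cEtl8, cEtl9, cEtl10]) (cEtl1.Pt 0)) = true := by decide +kernel
theorem cEt_f0 : (Nat.ble cEtl0.K 49 && Nat.ble (topK [cEtl1, cEtl2, cEtl3, cEtl4, cEtl5, cEtl6, cEtl7, cEtl8, cEtl9, cEtl10]) cEtl0.K && fixLetters cEth_P (topK [cEtl1, cEtl2, cEtl3, cEtl4, cEtl5, cEtl6, cEtl7, cEtl8, cEtl9, cEtl10]) (cEtl0.Pt 0)) = true := by decide +kernel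
theorem cEt_c : chainCard [cEtl0, cEtl1, cEtl2, cEtl3, cEtl4, cEtl5, cEtl6, cEtl7, cEtl8, cEtl9, cEtl10] = 178362777600 := by decide +kernel
theorem cEe_lt : allL (ltAll 40) cEe_W = true := by decide +kernel
theorem cE_f10 : (Nat.ble cEtl10.K 49 && Nat.blt (nat_lit 0) 4560 && fixLetters cEth_P cEtl10.K (nat_lit 0) && Nat.beq (ltAll 3 [nat_lit 2]) 0 && Nat.beq (apW (rl [nat_lit 35, nat_lit 36, nat_lit 37] F_P) [nat_lit 2] (nat_lit 0)) (cEtl10.Pt 0)) = true := by decide +kernel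
theorem cE_f9 : (Nat.ble cEtl9.K 49 && Nat.blt (nat_lit 0) 4560 && fixLetters cEth_P cEtl9.K (nat_lit 0) && Nat.beq (ltAll 3 [nat_lit 0]) 0 && Nat.beq (apW (rl [nat_lit 35, nat_lit 36, nat_lit 37] F_P) [nat_lit 0] (nat_lit 0)) (cEtl9.Pt 0)) = true := by decide +kernel
theorem cE_f8 : (Nat.ble cEtl8.K 49 && Nat.blt (nat_lit 0) 4560 && fixLetters cEth_P cEtl8.K (nat_lit 0) && Nat.beq (ltAll 3 [nat_lit 1]) 0 && Nat.beq (apW (rl [nat_lit 35, nat_lit 36, nat_lit 37] F_P) [nat_lit 1] (nat_lit 0)) (cEtl8.Pt 0)) = true := by decide +kernel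
theorem cEc7_e_0 : allZ (dent cEc7 cEe_P (nat_lit 4560)) (nat_lit 0) (nat_lit 7) = true := by decide +kernel
theorem cEc7_h : 0 < cEc7.n ∧ 0 < cEc7.K ∧ cEc7.Pt 0 < 4560 ∧ cEc7.Q (cEc7.Pt 0) = 0 := by decide +kernel
theorem cEtn0_0 : (Nat.ble cEtl7.K 49 && Nat.beq (ltAll 4560 [cEtl6.Pt 0, cEtl5.Pt 0, cEtl4.Pt 0, cEtl3.Pt 0, cEtl2.Pt 0, cEtl1.Pt 0, cEtl0.Pt 0]) 0 && kChk cEe_P (rl [nat_lit 35, nat_lit 36, nat_lit 37] F_P) cEtn0.Kn 3 H15.XCo1C.B [cEtl6.Pt 0, cEtl5.Pt 0, cEtl4.Pt 0, cEtl3.Pt 0, cEtl2.Pt 0, cEtl1.Pt 0, cEtl0.Pt 0] && allL (ltAll 3) cEtn0.pre && planOK cEth_P (rl [nat_lit 35, nat_lit 36, nat_lit 37] F_P) 3 (cEtl7.Pt 0) cEtn0.plan [cEtl7, cEtl8, cEtl9, cEtl10]) = true := by decide +kernel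
theorem cEtn0_1_0 : allZ (cEtn0.ent F_P cEth_P (rl [nat_lit 35, nat_lit 36, nat_lit 37] F_P) (rl [nat_lit 35, nat_lit 36, nat_lit 37] F_P) cEe_P (nat_lit 40) (nat_lit 3) H15.XCo1C.B cEtl7 [cEtl8, cEtl9, cEtl10] (memO cEc7)) (nat_lit 0) (nat_lit 32) = true := by decide +kernel
theorem cE_f7 : (Nat.ble cEc7.K 5 && Nat.ble (topK []) cEc7.K && Nat.beq (cEc7.Pt 0) (cEtl7.Pt 0) && Nat.beq (ltAll 4560 [cEtl6.Pt 0, cEtl5.Pt 0, cEtl4.Pt 0, cEtl3.Pt 0, cEtl2.Pt 0, cEtl1.Pt 0, cEtl0.Pt 0]) 0 && kChk cEe_P (rl [nat_lit 35, nat_lit 36, nat_lit 37] F_P) cEc7.K 3 H15.XCo1C.B [cEtl6.Pt 0, cEtl5.Pt 0, cEtl4.Pt 0, cEtl3.Pt 0, cEtl2.Pt 0, cEtl1.Pt 0, cEtl0.Pt 0]) = true := by decide +kernel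
theorem cE_f6 : (Nat.ble cEtl6.K 49 && Nat.blt (nat_lit 46) 4560 && fixLetters cEth_P cEtl6.K (nat_lit 46) && Nat.beq (ltAll 3 [nat_lit 0, nat_lit 1]) 0 && Nat.beq (apW (rl [nat_lit 35, nat_lit 36, nat_lit 37] F_P) [nat_lit 0, nat_lit 1] (nat_lit 46)) (cEtl6.Pt 0)) = true := by decide +kernel
theorem cE_f5 : (Nat.ble cEtl5.K 49 && Nat.blt (nat_lit 46) 4560 && fixLetters cEth_P cEtl5.K (nat_lit 46) && Nat.beq (ltAll 3 [nat_lit 0, nat_lit 2]) 0 && Nat.beq (apW (rl [nat_lit 35, nat_lit 36, nat_lit 37] F_P) [nat_lit 0, nat_lit 2] (nat_lit 46)) (cEtl5.Pt 0)) = true := by decide +kernel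
theorem cE_f4 : (Nat.ble cEtl4.K 49 && Nat.blt (nat_lit 46) 4560 && fixLetters cEth_P cEtl4.K (nat_lit 46) && Nat.beq (ltAll 3 [nat_lit 1, nat_lit 0]) 0 && Nat.beq (apW (rl [nat_lit 35, nat_lit 36, nat_lit 37] F_P) [nat_lit 1, nat_lit 0] (nat_lit 46)) (cEtl4.Pt 0)) = true := by decide +kernel
theorem cE_f3 : (Nat.ble cEtl3.K 49 && Nat.blt (nat_lit 46) 4560 && fixLetters cEth_P cEtl3.K (nat_lit 46) && Nat.beq (ltAll 3 [nat_lit 0]) 0 && Nat.beq (apW (rl [nat_lit 35, nat_lit 36, nat_lit 37] F_P) [nat_lit 0] (nat_lit 46)) (cEtl3.Pt 0)) = true := by decide +kernel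
theorem cE_f2 : (Nat.ble cEtl2.K 49 && Nat.blt (nat_lit 46) 4560 && fixLetters cEth_P cEtl2.K (nat_lit 46) && Nat.beq (ltAll 3 [nat_lit 1, nat_lit 2]) 0 && Nat.beq (apW (rl [nat_lit 35, nat_lit 36, nat_lit 37] F_P) [nat_lit 1, nat_lit 2] (nat_lit 46)) (cEtl2.Pt 0)) = true := by decide +kernel
theorem cE_f1 : (Nat.ble cEtl1.K 49 && Nat.blt (nat_lit 46) 4560 && fixLetters cEth_P cEtl1.K (nat_lit 46) && Nat.beq (ltAll 3 [nat_lit 1]) 0 && Nat.beq (apW (rl [nat_lit 35, nat_lit 36, nat_lit 37] F_P) [nat_lit 1] (nat_lit 46)) (cEtl1.Pt 0)) = true := by decide +kernel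
theorem cEc0_e_0 : allZ (dent cEc0 cEe_P (nat_lit 4560)) (nat_lit 0) (nat_lit 3) = true := by decide +kernel
theorem cEc0_h : 0 < cEc0.n ∧ 0 < cEc0.K ∧ cEc0.Pt 0 < 4560 ∧ cEc0.Q (cEc0.Pt 0) = 0 := by decide +kernel
theorem cEtn1_0 : (Nat.ble cEtl0.K 49 && Nat.beq (ltAll 4560 []) 0 && kChk cEe_P (rl [nat_lit 35, nat_lit 36, nat_lit 37] F_P) cEtn1.Kn 3 H15.XCo1C.B [] && allL (ltAll 3) cEtn1.pre && planOK cEth_P (rl [nat_lit 35, nat_lit 36, nat_lit 37] F_P) 3 (cEtl0.Pt 0) cEtn1.plan [cEtl0, cEtl1, cEtl2, cEtl3, cEtl4, cEtl5, cEtl6, cEtl7, cEtl8, cEtl9, cEtl10]) = true := by decide +kernel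
theorem cEtn1_1_0 : allZ (cEtn1.ent F_P cEth_P (rl [nat_lit 35, nat_lit 36, nat_lit 37] F_P) (rl [nat_lit 35, nat_lit 36, nat_lit 37] F_P) cEe_P (nat_lit 40) (nat_lit 3) H15.XCo1C.B cEtl0 [cEtl1, cEtl2, cEtl3, cEtl4, cEtl5, cEtl6, cEtl7, cEtl8, cEtl9, cEtl10] (memO cEc0)) (nat_lit 0) (nat_lit 240) = true := by decide +kernel
theorem cE_f0 : (Nat.ble cEc0.K 5 && Nat.ble (topK [cEc7]) cEc0.K && Nat.beq (cEc0.Pt 0) (cEtl0.Pt 0) && Nat.beq (ltAll 4560 []) 0 && kChk cEe_P (rl [nat_lit 35, nat_lit 36, nat_lit 37] F_P) cEc0.K 3 H15.XCo1C.B []) = true := by decide +kernel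
theorem cE_c : chainCard [cEc0, cEc7] = 32 ∧ topK [cEc0, cEc7] = 5 := by decide +kernel
theorem cE_le_k : allZ (fun a => Nat.add (ltAll 5 (nth [] [[nat_lit 1],
  [nat_lit 3],
  [nat_lit 0],
  [nat_lit 2, nat_lit 4],
  [nat_lit 0, nat_lit 1, nat_lit 2]] a)) (sumL (fun β => Nat.xor (cEe_P a β) (apW (rl [nat_lit 9, nat_lit 10, nat_lit 11, nat_lit 39, nat_lit 14] F_P) (nth [] [[nat_lit 1],
  [nat_lit 3],
  [nat_lit 0],
  [nat_lit 2, nat_lit 4],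
  [nat_lit 0, nat_lit 1, nat_lit 2]] a) β)) H15.XCo1C.B)) 0 5 = true := by decide +kernel
theorem TO1_0 : allZ (toEnt eS [20, 21, 22, 23, 24, 25, 26, 27, 28, 29] [9, 10, 15, 16, 17, 18, 19, 2, 4] 10 9 TO TW1) (nat_lit 0) (nat_lit 64) = true := by decide +kernel
theorem TO1_1 : allZ (toEnt eS [20, 21, 22, 23, 24, 25, 26, 27, 28, 29] [9, 10, 15, 16, 17, 18, 19, 2, 4] 10 9 TO TW1) (nat_lit 64) (nat_lit 5) = true := by decide +kernel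
theorem RO1 : allL (fun W => eS (rlW [20, 21, 22, 23, 24, 25, 26, 27, 28, 29] W) []) (RO0 ++ R7) = true := by decide +kernel
theorem TO2_0 : allZ (toEnt eS [20, 21, 22, 23, 24, 25, 26, 27, 30, 31] [9, 10, 15, 16, 17, 18, 19, 2, 4] 10 9 TO TW2) (nat_lit 0) (nat_lit 64) = true := by decide +kernel
theorem TO2_1 : allZ (toEnt eS [20, 21, 22, 23, 24, 25, 26, 27, 30, 31] [9, 10, 15, 16, 17, 18, 19, 2, 4] 10 9 TO TW2) (nat_lit 64) (nat_lit 5) = true := by decide +kernel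
theorem RO2 : allL (fun W => eS (rlW [20, 21, 22, 23, 24, 25, 26, 27, 30, 31] W) []) (RO0 ++ R7) = true := by decide +kernel
theorem rho_k : allZ (fun k => force (nth 0 [9, 10, 15, 16, 17, 18, 19, 2, 4] k) fun j => Nat.add (rhoEnt eS nS [4, 10] [29, j, 28] (31 :: (nth [] rV k ++ [30]))) (rhoEnt eS nS [4, 10] [j] (nth [] rV k))) 0 9 = true := by decide +kernel
theorem L5_e_0_0 : allZ (mulEnt eS [32, 33, 24] L5 (nat_lit 192) L5T (nat_lit 0)) (nat_lit 0) (nat_lit 128) = true := by decide +kernel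
theorem L5_e_0_1 : allZ (mulEnt eS [32, 33, 24] L5 (nat_lit 192) L5T (nat_lit 0)) (nat_lit 128) (nat_lit 64) = true := by decide +kernel
theorem L5_e_1_0 : allZ (mulEnt eS [32, 33, 24] L5 (nat_lit 192) L5T (nat_lit 1)) (nat_lit 0) (nat_lit 128) = true := by decide +kernel
theorem L5_e_1_1 : allZ (mulEnt eS [32, 33, 24] L5 (nat_lit 192) L5T (nat_lit 1)) (nat_lit 128) (nat_lit 64) = true := by decide +kernel
theorem L5_e_2_0 : allZ (mulEnt eS [32, 33, 24] L5 (nat_lit 192) L5T (nat_lit 2)) (nat_lit 0) (nat_lit 128) = true := by decide +kernel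
theorem L5_e_2_1 : allZ (mulEnt eS [32, 33, 24] L5 (nat_lit 192) L5T (nat_lit 2)) (nat_lit 128) (nat_lit 64) = true := by decide +kernel
theorem LE_e_a : allZ2 (mulEnt eS [9, 10, 11, 39] LE (nat_lit 16) LET) (nat_lit 4) (nat_lit 16) = true := by decide +kernel
theorem aq_k : allL (fun W => Nat.add (ltAll 7 W) (eS (rlW [32, 20, 21, 22, 23, 9, 10] W) [])) aqT = true := by decide +kernel
theorem aq_e_0 : allZ (actEnt eS nS aqI L5 aqT [33]) (nat_lit 0) (nat_lit 64) = true := by decide +kernel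
theorem aq_e_1 : allZ (actEnt eS nS aqI L5 aqT [33]) (nat_lit 64) (nat_lit 64) = true := by decide +kernel
theorem aq_e_2 : allZ (actEnt eS nS aqI L5 aqT [33]) (nat_lit 128) (nat_lit 64) = true := by decide +kernel
theorem aw_k : allL (fun W => Nat.add (ltAll 5 W) (eS (rlW [24, 20, 21, 32, 9] W) [])) awT = true := by decide +kernel
theorem aw_e_0 : allZ (actEnt eS nS awI L5 awT [24]) (nat_lit 0) (nat_lit 64) = true := by decide +kernel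

end H0.Co
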